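import Cfsg.Agent.Lib.TensorForm.SympBasic
import Cfsg.Agent.Lib.LinClasses.SympBasis

/-!
The tensor product of a symmetric and an alternating form, `q` odd, and a group of its isometries
containing the Kronecker isometries.
-/

set_option autoImplicit false
set_option linter.unusedSectionVars false

namespace Cfsg.Agent.Lib.TensorMixed

open Matrix Cfsg.Agent.Lib Cfsg.Agent.Lib.TensorMax Cfsg.Agent.Lib.TensorForm

variable {F : Type*} [Field F] {r s : ℕ}

/-- Contraction of the second factor with a vector. -/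
def kap (fA : (Fin s → F) → (Fin s → F) → F) (c : Fin s → F) :
    Matrix (Fin r) (Fin s) F →ₗ[F] (Fin r → F) where
  toFun X := X *ᵥ cov fA c
  map_add' X Y := add_mulVec X Y _
  map_smul' l X := smul_mulVec l X _

theorem eq_sum_rows (X : Matrix (Fin r) (Fin s) F) : X = ∑ i, vecMulVec (Pi.single i 1) (X i) := by
  ext p q
  simp [Matrix.sum_apply, vecMulVec_apply, Pi.single_apply]

/-- Linear maps agreeing on pure tensors agree. -/
theorem lin_ext {W : Type*} [AddCommGroup W] [Module F W] {L L' : Matrix (Fin r) (Fin s) F →ₗ[F] W}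
    (h : ∀ u e, L (vecMulVec u e) = L' (vecMulVec u e)) (X : Matrix (Fin r) (Fin s) F) : L X = L' X := by
  rw [eq_sum_rows X, map_sum, map_sum]
  exact Finset.sum_congr rfl fun i _ => h _ _

theorem det_ne_zero_of_injective {n : ℕ} {L : (Fin n → F) →ₗ[F] (Fin n → F)} (h : Function.Injective L) :
    (LinearMap.toMatrix' L).det ≠ 0 := by
  intro h0
  obtain ⟨v, hv, hv0⟩ := Matrix.exists_mulVec_eq_zero_iff.2 h0
  rw [LinearMap.toMatrix'_mulVec] at hv0
  exact hv (h (hv0.trans (map_zero L).symm))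

/-- The setting: `U = F^r` symmetric, `A = F^s` alternating, `M` isometries containing the Kronecker
isometries. -/
structure MSetup (fU : (Fin r → F) → (Fin r → F) → F) (fA : (Fin s → F) → (Fin s → F) → F)
    (M : Subgroup (GL (Fin r × Fin s) F)) : Prop where
  sym : IsSForm (RingHom.id F) 1 fU
  alt : IsAlt fA
  two : (2 : F) ≠ 0
  two_le : 2 ≤ s
  three_le : 3 ≤ r
  large : 3 ≤ s ∨ 7 ≤ r
  field : 5 ≤ Nat.card F ∨ 4 ≤ r
  iso : ∀ g ∈ M, ∀ X Y, tB fU fA (op g X) (op g Y) = tB fU fA X Y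
  kron : ∀ g ∈ Cfsg.Geo.kroneckerSubgroup r s F,
    (∀ X Y, tB fU fA (op g X) (op g Y) = tB fU fA X Y) → g ∈ M

/-- The reflection at an anisotropic vector. -/
def refl {fU : (Fin r → F) → (Fin r → F) → F} (hU : IsSForm (RingHom.id F) 1 fU) (u : Fin r → F) :
    (Fin r → F) →ₗ[F] (Fin r → F) :=
  LinearMap.id - (2 / fU u u) • rk1 hU u u

namespace MSetup

variable {fU : (Fin r → F) → (Fin r → F) → F} {fA : (Fin s → F) → (Fin s → F) → F}
  {M : Subgroup (GL (Fin r × Fin s) F)} (S : MSetup fU fA M)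
include S

theorem symU (u v : Fin r → F) : fU v u = fU u v := by rw [S.sym.symm u v, RingHom.id_apply, one_mul]

theorem smulU (l : F) (u v : Fin r → F) : fU u (l • v) = l * fU u v := S.sym.smul_right l u v

theorem smulA (l : F) (x v : Fin s → F) : fA x (l • v) = l * fA x v := S.alt.smul_right l x v

theorem kap_apply (c : Fin s → F) (X : Matrix (Fin r) (Fin s) F) : kap fA c X = X *ᵥ cov fA c := rfl

theorem kap_pure (c : Fin s → F) (u : Fin r → F) (e : Fin s → F) :
    kap fA c (vecMulVec u e) = fA e c • u := by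
  rw [S.kap_apply, pure_mulVec, S.alt.form.dot_cov]

theorem kap_add (c d : Fin s → F) (X : Matrix (Fin r) (Fin s) F) :
    kap fA (c + d) X = kap fA c X + kap fA d X := by
  rw [S.kap_apply, S.kap_apply, S.kap_apply, S.alt.form.cov_add, mulVec_add]

theorem kap_smul (l : F) (c : Fin s → F) (X : Matrix (Fin r) (Fin s) F) :
    kap fA (l • c) X = l • kap fA c X := by
  rw [S.kap_apply, S.kap_apply, S.alt.form.cov_smul, mulVec_smul, RingHom.id_apply]

theorem extU {v w : Fin r → F} (h : ∀ u, fU v u = fU w u) : v = w := by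
  by_contra hne
  obtain ⟨u, hu⟩ := S.sym.nondeg (v - w) (sub_ne_zero.2 hne)
  exact hu (by rw [S.sym.sub_left, h, sub_self])

/-! The form. -/

theorem B_add_left (X Y Z : Matrix (Fin r) (Fin s) F) :
    tB fU fA (X + Y) Z = tB fU fA X Z + tB fU fA Y Z := by
  simp only [tB, add_mulVec, S.sym.add_left, Finset.sum_add_distrib]

theorem B_smul_left (l : F) (X Z : Matrix (Fin r) (Fin s) F) : tB fU fA (l • X) Z = l * tB fU fA X Z := by
  simp only [tB, smul_mulVec, S.sym.smul_left, Finset.mul_sum]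

theorem B_add_right (X Y Z : Matrix (Fin r) (Fin s) F) :
    tB fU fA X (Y + Z) = tB fU fA X Y + tB fU fA X Z := by
  simp only [tB, ← Finset.sum_add_distrib]
  refine Finset.sum_congr rfl fun k _ => ?_
  rw [show (Y + Z) k = Y k + Z k from rfl, S.alt.form.cov_add, mulVec_add, S.sym.add_left]

theorem B_smul_right (l : F) (X Z : Matrix (Fin r) (Fin s) F) : tB fU fA X (l • Z) = l * tB fU fA X Z := by
  simp only [tB, Finset.mul_sum]
  refine Finset.sum_congr rfl fun k _ => ?_
  rw [show (l • Z) k = l • Z k from rfl, S.alt.form.cov_smul, mulVec_smul, S.sym.smul_left, RingHom.id_apply]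

/-- The form as a bilinear map. -/
noncomputable def Bl : LinearMap.BilinForm F (Matrix (Fin r) (Fin s) F) :=
  LinearMap.mk₂ F (tB fU fA) S.B_add_left S.B_smul_left S.B_add_right S.B_smul_right

theorem Bl_apply (X Y : Matrix (Fin r) (Fin s) F) : S.Bl X Y = tB fU fA X Y := rfl

theorem B_zero_left (Z : Matrix (Fin r) (Fin s) F) : tB fU fA 0 Z = 0 := by
  rw [← S.Bl_apply, map_zero, LinearMap.zero_apply]

theorem B_sub_left (X Y Z : Matrix (Fin r) (Fin s) F) :
    tB fU fA (X - Y) Z = tB fU fA X Z - tB fU fA Y Z := by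
  simp only [← S.Bl_apply, map_sub, LinearMap.sub_apply]

theorem B_pure (X : Matrix (Fin r) (Fin s) F) (y : Fin r → F) (c : Fin s → F) :
    tB fU fA X (vecMulVec y c) = fU (kap fA c X) y := by
  let L : (Fin r → F) →+ F :=
    { toFun := fun v => fU (kap fA c X) v
      map_zero' := S.sym.zero_right _
      map_add' := fun p q => S.sym.add_right _ p q }
  show _ = L y
  conv_rhs => rw [pi_eq_sum_univ' y, map_sum]
  refine Finset.sum_congr rfl fun k _ => ?_
  show fU (X *ᵥ cov fA (y k • c)) (Pi.single k 1) = fU (X *ᵥ cov fA c) (y k • Pi.single k 1)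
  rw [S.alt.form.cov_smul, mulVec_smul, S.sym.smul_left, S.smulU, RingHom.id_apply]

theorem B_pure_pure (u v : Fin r → F) (e c : Fin s → F) :
    tB fU fA (vecMulVec u e) (vecMulVec v c) = fA e c * fU u v := by
  rw [S.B_pure, S.kap_pure, S.sym.smul_left]

theorem B_swap (X Y : Matrix (Fin r) (Fin s) F) : tB fU fA Y X = -tB fU fA X Y := by
  rw [eq_sum_rows X, eq_sum_rows Y]
  simp only [← S.Bl_apply, map_sum, LinearMap.sum_apply, ← Finset.sum_neg_distrib]
  rw [Finset.sum_comm]
  refine Finset.sum_congr rfl fun i _ => Finset.sum_congr rfl fun j _ => ?_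
  rw [S.Bl_apply, S.Bl_apply, S.B_pure_pure, S.B_pure_pure, S.alt.swap, S.symU]
  ring

theorem B_pure_left (X : Matrix (Fin r) (Fin s) F) (y : Fin r → F) (c : Fin s → F) :
    tB fU fA (vecMulVec y c) X = -fU (kap fA c X) y := by rw [S.B_swap X, S.B_pure]

theorem iso_of_pure {g : GL (Fin r × Fin s) F}
    (h : ∀ u v e c, tB fU fA (op g (vecMulVec u e)) (op g (vecMulVec v c)) = fA e c * fU u v)
    (X Y : Matrix (Fin r) (Fin s) F) : tB fU fA (op g X) (op g Y) = tB fU fA X Y := by
  rw [eq_sum_rows X, eq_sum_rows Y]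
  simp only [← S.Bl_apply, map_sum, LinearMap.sum_apply]
  exact Finset.sum_congr rfl fun i _ => Finset.sum_congr rfl fun j _ => by
    rw [S.Bl_apply, S.Bl_apply, h, S.B_pure_pure]

theorem B_nondeg {X : Matrix (Fin r) (Fin s) F} (h : ∀ Y, tB fU fA X Y = 0) : X = 0 := by
  refine Matrix.ext fun i => ?_
  have hi : X i = 0 := by
    by_contra hne
    obtain ⟨c, hc⟩ := S.alt.form.nondeg _ hne
    have h1 : kap fA c X = 0 := S.extU fun u => by rw [S.sym.zero_left, ← S.B_pure, h]
    refine hc ?_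
    rw [← S.alt.form.dot_cov]
    exact congrFun h1 i
  exact fun j => congrFun hi j

/-! Kronecker elements. -/

theorem injective_sim {n : ℕ} {f : (Fin n → F) → (Fin n → F) → F} {σ : F →+* F} {ε : F}
    (hf : IsSForm σ ε f) {L : (Fin n → F) →ₗ[F] (Fin n → F)} {μ : F} (hμ : μ ≠ 0)
    (hL : ∀ x y, f (L x) (L y) = μ * f x y) : Function.Injective L := by
  intro x y h
  by_contra hne
  obtain ⟨w, hw⟩ := hf.nondeg (x - y) (sub_ne_zero.2 hne)
  have h' := hL (x - y) w
  rw [map_sub, h, sub_self, hf.zero_left] at h'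
  exact mul_ne_zero hμ hw h'.symm

theorem exists_kron {α : (Fin r → F) →ₗ[F] (Fin r → F)} {β : (Fin s → F) →ₗ[F] (Fin s → F)} {μ : F}
    (hμ : μ ≠ 0) (hα : ∀ u v, fU (α u) (α v) = μ * fU u v) (hβ : ∀ x y, fA (β x) (β y) = μ⁻¹ * fA x y) :
    ∃ g ∈ M, g ∈ Cfsg.Geo.kroneckerSubgroup r s F ∧
      ∀ u e, op g (vecMulVec u e) = vecMulVec (α u) (β e) := by
  obtain ⟨g, hg, -, hgX⟩ := exists_kron_of (LinearMap.toMatrix' α) (LinearMap.toMatrix' β)
    (det_ne_zero_of_injective (S.injective_sim S.sym hμ hα))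
    (det_ne_zero_of_injective (S.injective_sim S.alt.form (inv_ne_zero hμ) hβ))
  have e : ∀ u e, op g (vecMulVec u e) = vecMulVec (α u) (β e) := fun u e => by
    rw [hgX, LinearMap.toMatrix'_mulVec, LinearMap.toMatrix'_mulVec]
  refine ⟨g, S.kron g hg (S.iso_of_pure fun u v e' c => ?_), hg, e⟩
  rw [e, e, S.B_pure_pure, hα, hβ]
  field_simp

/-- An isometry of `U` as an element of `M`. -/
theorem exists_ortho {α : (Fin r → F) →ₗ[F] (Fin r → F)} (hα : ∀ u v, fU (α u) (α v) = fU u v) :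
    ∃ g ∈ M, g ∈ Cfsg.Geo.kroneckerSubgroup r s F ∧
      (∀ u e, op g (vecMulVec u e) = vecMulVec (α u) e) ∧
      ∀ c X, kap fA c (op g X) = α (kap fA c X) := by
  obtain ⟨g, hg, hgk, e⟩ := S.exists_kron (α := α) (β := LinearMap.id) one_ne_zero
    (fun u v => by rw [hα, one_mul]) (fun x y => by simp)
  refine ⟨g, hg, hgk, fun u e' => e u e', fun c => ?_⟩
  refine lin_ext (L := (kap fA c).comp (op g)) (L' := α.comp (kap fA c)) fun u e' => ?_
  rw [LinearMap.comp_apply, LinearMap.comp_apply, e, LinearMap.id_apply, S.kap_pure, S.kap_pure, map_smul]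

/-- An isometry of `A` as an element of `M`. -/
theorem exists_sp {β : (Fin s → F) →ₗ[F] (Fin s → F)} (hβ : ∀ x y, fA (β x) (β y) = fA x y) :
    ∃ g ∈ M, g ∈ Cfsg.Geo.kroneckerSubgroup r s F ∧
      ∀ u e, op g (vecMulVec u e) = vecMulVec u (β e) := by
  obtain ⟨g, hg, hgk, e⟩ := S.exists_kron (α := LinearMap.id) (β := β) one_ne_zero
    (fun u v => by simp) (fun x y => by rw [hβ, inv_one, one_mul])
  exact ⟨g, hg, hgk, fun u e' => e u e'⟩

/-- The transvections of `A` lie in `M`. -/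
theorem exists_transA (z : Fin s → F) (l : F) :
    ∃ g ∈ M, g ∈ Cfsg.Geo.kroneckerSubgroup r s F ∧
      ∀ X, op g X = X + l • vecMulVec (kap fA z X) z := by
  obtain ⟨g, hg, hgk, e⟩ := S.exists_sp (β := LinearMap.id + l • rk1 S.alt.form z z)
    fun x y => by
      simp only [LinearMap.add_apply, LinearMap.id_apply, LinearMap.smul_apply, rk1_apply, smul_smul]
      exact S.alt.trans_form z x y l
  refine ⟨g, hg, hgk, lin_ext (L := op g) (L' := LinearMap.id + l • (pl r z).comp (kap fA z)) fun u e' => ?_⟩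
  simp only [e, LinearMap.add_apply, LinearMap.id_apply, LinearMap.smul_apply, LinearMap.comp_apply, rk1_apply,
    pl_apply, S.kap_pure, pure_add_right, pure_smul_right, pure_smul_left]

theorem refl_apply (u x : Fin r → F) : refl S.sym u x = x - (2 / fU u u * fU x u) • u := by
  simp only [refl, LinearMap.sub_apply, LinearMap.id_apply, LinearMap.smul_apply, rk1_apply, smul_smul]

theorem refl_iso {u : Fin r → F} (hu : fU u u ≠ 0) (x y : Fin r → F) :
    fU (refl S.sym u x) (refl S.sym u y) = fU x y := by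
  have h : 2 / fU u u * fU u u = 2 := div_mul_cancel₀ _ hu
  have e : fU u y = fU y u := S.symU y u
  simp only [S.refl_apply, S.sym.sub_left, S.sym.sub_right, S.sym.smul_left, S.smulU]
  rw [e]
  linear_combination (2 / fU u u * fU x u * fU y u) * h

theorem refl_self {u : Fin r → F} (hu : fU u u ≠ 0) : refl S.sym u u = -u := by
  rw [S.refl_apply, div_mul_cancel₀ _ hu]
  module

theorem refl_fix (u : Fin r → F) {x : Fin r → F} (h : fU x u = 0) : refl S.sym u x = x := by
  rw [S.refl_apply, h, mul_zero, zero_smul, sub_zero]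

theorem refl_refl {u : Fin r → F} (hu : fU u u ≠ 0) (x : Fin r → F) :
    refl S.sym u (refl S.sym u x) = x := by
  rw [S.refl_apply u x, map_sub, map_smul, S.refl_self hu, S.refl_apply u x, smul_neg, sub_neg_eq_add,
    sub_add_cancel]

/-- The reflection moving one singular vector to another. -/
theorem refl_move {x y : Fin r → F} (hx : fU x x = 0) (hy : fU y y = 0) (h : fU x y ≠ 0) :
    fU (x - y) (x - y) ≠ 0 ∧ refl S.sym (x - y) x = y := by
  have e : fU (x - y) (x - y) = -(2 * fU x y) := by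
    rw [S.sym.sub_left, S.sym.sub_right, S.sym.sub_right, hx, hy, S.symU x y]; ring
  have hne : fU (x - y) (x - y) ≠ 0 := by rw [e]; exact neg_ne_zero.2 (mul_ne_zero S.two h)
  refine ⟨hne, ?_⟩
  rw [S.refl_apply, e, S.sym.sub_right x x y, hx, zero_sub,
    show 2 / -(2 * fU x y) * -fU x y = 1 by field_simp [S.two], one_smul, sub_sub_cancel]

/-- Every non-zero vector of `A` can be moved to every other one. -/
theorem exists_sp_move {x y : Fin s → F} (hx : x ≠ 0) (hy : y ≠ 0) :
    ∃ β : (Fin s → F) →ₗ[F] (Fin s → F), (∀ p q, fA (β p) (β q) = fA p q) ∧ β x = y := by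
  refine S.alt.trans_induction (P := fun z => ∃ β : (Fin s → F) →ₗ[F] (Fin s → F),
    (∀ p q, fA (β p) (β q) = fA p q) ∧ β x = z) (fun p q hpq ⟨β, hβ, hβx⟩ => ?_) hx hy
    ⟨LinearMap.id, fun _ _ => rfl, rfl⟩
  obtain ⟨z, l, hz, -⟩ := S.alt.exists_move hpq
  refine ⟨(LinearMap.id + l • rk1 S.alt.form z z).comp β, fun p' q' => ?_, ?_⟩
  · simp only [LinearMap.comp_apply, LinearMap.add_apply, LinearMap.id_apply, LinearMap.smul_apply, rk1_apply,
      smul_smul, S.alt.trans_form, hβ]
  · simp only [LinearMap.comp_apply, LinearMap.add_apply, LinearMap.id_apply, LinearMap.smul_apply, rk1_apply,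
      smul_smul, hβx, hz]

/-- A similitude of `A` with given multiplier fixing a given vector. -/
theorem exists_similitude {c : Fin s → F} (hc : c ≠ 0) {μ : F} (hμ : μ ≠ 0) :
    ∃ β : (Fin s → F) →ₗ[F] (Fin s → F), (∀ p q, fA (β p) (β q) = μ * fA p q) ∧ β c = c := by
  have hf : Cfsg.Geo.IsSymplecticForm fA :=
    { bilinear := { add_left := S.alt.form.add_left, add_right := S.alt.form.add_right, smul_left := S.alt.form.smul_left, smul_right := S.smulA }
      skew := fun v w => S.alt.swap w v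
      alternating := S.alt.self
      nondegenerate := fun v hv => by
        obtain ⟨w, hw⟩ := S.alt.form.nondeg v hv
        exact ⟨⟨w, by rw [S.alt.swap v w]; exact neg_ne_zero.2 hw⟩, w, hw⟩ }
  obtain ⟨b, -, Φ, hΦ⟩ := LinClasses.exists_symp_basis hf
  let D : (Fin 2 × Fin b → F) →ₗ[F] (Fin 2 × Fin b → F) :=
    { toFun := fun u p => (if p.1 = 0 then 1 else μ) * u p
      map_add' := fun u v => funext fun p => mul_add _ _ _
      map_smul' := fun l u => funext fun p => by simp; ring_nf }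
  let β₁ : (Fin s → F) →ₗ[F] (Fin s → F) := Φ.toLinearMap ∘ₗ D ∘ₗ Φ.symm.toLinearMap
  have h1 : ∀ p q, fA (β₁ p) (β₁ q) = μ * fA p q := fun p q => by
    obtain ⟨u, rfl⟩ := Φ.surjective p
    obtain ⟨v, rfl⟩ := Φ.surjective q
    simp only [β₁, LinearMap.comp_apply, LinearEquiv.coe_coe, LinearEquiv.symm_apply_apply, hΦ, Finset.mul_sum]
    refine Finset.sum_congr rfl fun j _ => ?_
    simp only [D, LinearMap.coe_mk, AddHom.coe_mk, if_true, if_false, one_mul, one_ne_zero]
    ring
  have hne : β₁ c ≠ 0 := fun e => hc (S.injective_sim S.alt.form hμ h1 (e.trans (map_zero β₁).symm))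
  obtain ⟨β₂, h2, h2c⟩ := S.exists_sp_move hne hc
  exact ⟨β₂.comp β₁, fun p q => (h2 (β₁ p) (β₁ q)).trans (h1 p q), h2c⟩

theorem exists_adj [Finite F] (L : (Fin r → F) →ₗ[F] (Fin r → F)) :
    ∃ L' : (Fin r → F) →ₗ[F] (Fin r → F), ∀ u v, fU u (L' v) = fU (L u) v := by
  let C : (Fin r → F) →ₗ[F] (Fin r → F) :=
    { toFun := cov fU
      map_add' := S.sym.cov_add
      map_smul' := fun l c => by rw [S.sym.cov_smul] }
  let E := LinearEquiv.ofBijective C ⟨S.sym.cov_injective, fun ψ => S.sym.exists_cov ψ⟩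
  refine ⟨E.symm.toLinearMap ∘ₗ (Matrix.mulVecLin (LinearMap.toMatrix' L)ᵀ) ∘ₗ C, fun u v => ?_⟩
  have h : cov fU (E.symm ((LinearMap.toMatrix' L)ᵀ *ᵥ cov fU v)) = (LinearMap.toMatrix' L)ᵀ *ᵥ cov fU v :=
    E.apply_symm_apply _
  show fU u (E.symm ((LinearMap.toMatrix' L)ᵀ *ᵥ cov fU v)) = fU (L u) v
  rw [← S.sym.dot_cov, h, mulVec_transpose, dotProduct_comm, ← dotProduct_mulVec, dotProduct_comm,
    LinearMap.toMatrix'_mulVec, S.sym.dot_cov]

theorem exists_orth {j : ℕ} (u : Fin j → Fin r → F) (T : Submodule F (Fin r → F)) [Finite F]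
    (h : j + Module.finrank F T < r) : ∃ v, (∀ i, fU v (u i) = 0) ∧ v ∉ T := by
  obtain ⟨φ, hφ, hφT⟩ := exists_perp (fun i => cov fU (u i)) T h
  exact ⟨φ, fun i => by rw [← S.sym.dot_cov, dotProduct_comm]; exact hφ i, hφT⟩

theorem exists_dual_out [Finite F] {T : Submodule F (Fin r → F)} {p : Fin r → F} (hp : p ∉ T) :
    ∃ w, (∀ t ∈ T, fU w t = 0) ∧ fU w p = 1 := by
  obtain ⟨φ, hφ0, hφ1⟩ := exists_sep hp
  obtain ⟨w, rfl⟩ := S.sym.exists_cov φ
  exact ⟨w, fun t ht => by rw [S.symU t w, ← S.sym.dot_cov]; exact hφ0 t ht,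
    by rw [S.symU p w, ← S.sym.dot_cov]; exact hφ1⟩

/-- A non-degenerate subspace is not split by a proper subspace containing all its anisotropic vectors up to
orthogonality. -/
theorem split_eq [Finite F] {T R : Submodule F (Fin r → F)}
    (hT : ∀ x ∈ T, (∀ y ∈ T, fU x y = 0) → x = 0)
    (hd : 5 ≤ Nat.card F ∨ 3 ≤ Module.finrank F T) (hR : R ≤ T) (hne : R ≠ ⊥)
    (h : ∀ v ∈ T, fU v v ≠ 0 → v ∈ R ∨ ∀ x ∈ R, fU v x = 0) : R = T := by
  refine le_antisymm hR fun p hp => ?_
  by_contra hpR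
  obtain ⟨x₀, hx₀, hx₀0⟩ := Submodule.exists_mem_ne_zero_of_ne_bot hne
  obtain ⟨φ, hφR, hφp⟩ := exists_sep hpR
  obtain ⟨p₂, hp₂, hp₂x⟩ : ∃ p₂ ∈ T, fU p₂ x₀ ≠ 0 := by
    by_contra hno
    push Not at hno
    exact hx₀0 (hT x₀ (hR hx₀) fun y hy => by rw [S.symU y x₀]; exact hno y hy)
  have key : ∀ v ∈ T, v ⬝ᵥ φ ≠ 0 → fU v x₀ ≠ 0 → fU v v = 0 := fun v hv h1 h2 => by
    by_contra hvv
    rcases h v hv hvv with h' | h'
    · exact h1 (hφR v h')
    · exact h2 (h' x₀ hx₀)
  obtain ⟨y, hy, hy1, hy2⟩ : ∃ y ∈ T, y ⬝ᵥ φ ≠ 0 ∧ fU y x₀ ≠ 0 := by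
    by_cases h2 : fU p x₀ = 0
    swap
    · exact ⟨p, hp, by rw [hφp]; exact one_ne_zero, h2⟩
    by_cases h1 : p₂ ⬝ᵥ φ = 0
    swap
    · exact ⟨p₂, hp₂, h1, hp₂x⟩
    exact ⟨p + p₂, T.add_mem hp hp₂, by rw [add_dotProduct, hφp, h1, add_zero]; exact one_ne_zero,
      by rw [S.sym.add_left, h2, zero_add]; exact hp₂x⟩
  have hline : ∀ x t, fU x x = 0 → fU (x + t) (x + t) = 0 → 2 * fU x t + fU t t = 0 := fun x t h1 h2 => by
    rw [S.sym.add_left, S.sym.add_right, S.sym.add_right, h1, S.symU x t] at h2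
    linear_combination h2
  -- along a line through an outside point only few parameters are bad
  have hgood : ∀ (x v : Fin r → F) (k : Finset F), 2 < k.card →
      (v ⬝ᵥ φ ≠ 0 ∨ x ⬝ᵥ φ ≠ 0) → (fU v x₀ ≠ 0 ∨ fU x x₀ ≠ 0) →
      ∃ t ∈ k, (x + t • v) ⬝ᵥ φ ≠ 0 ∧ fU (x + t • v) x₀ ≠ 0 := by
    classical
    intro x v k hk h1 h2
    by_contra hno
    push Not at hno
    have : k ⊆ {-(x ⬝ᵥ φ) / (v ⬝ᵥ φ), -fU x x₀ / fU v x₀} := fun t ht => by
      rw [Finset.mem_insert, Finset.mem_singleton]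
      by_cases h3 : (x + t • v) ⬝ᵥ φ = 0
      · rw [add_dotProduct, smul_dotProduct, smul_eq_mul] at h3
        left
        have hv : v ⬝ᵥ φ ≠ 0 := fun e => by
          rw [e, mul_zero, add_zero] at h3
          exact h1.elim (· e) (· h3)
        rw [eq_div_iff hv]; linear_combination h3
      · have h4 := hno t ht h3
        rw [S.sym.add_left, S.sym.smul_left] at h4
        right
        have hv : fU v x₀ ≠ 0 := fun e => by
          rw [e, mul_zero, add_zero] at h4
          exact h2.elim (· e) (· h4)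
        rw [eq_div_iff hv]; linear_combination h4
    have := (Finset.card_le_card this).trans Finset.card_le_two
    omega
  classical
  rcases hd with hd | hd
  · obtain ⟨v, hv, hvv⟩ : ∃ v ∈ T, fU v v ≠ 0 := by
      by_contra hno
      push Not at hno
      refine hy1 ?_
      rw [hT y hy fun z hz => ?_, zero_dotProduct]
      have := hline y z (hno y hy) (hno _ (T.add_mem hy hz))
      rw [hno z hz, add_zero] at this
      exact (mul_eq_zero.1 this).resolve_left S.two
    let := Fintype.ofFinite F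
    have hk : 2 < ((Finset.univ : Finset F) \ {0, -(2 * fU y v) / fU v v}).card := by
      have h1 := Finset.le_card_sdiff ({0, -(2 * fU y v) / fU v v} : Finset F) Finset.univ
      have h2 : ({0, -(2 * fU y v) / fU v v} : Finset F).card ≤ 2 := Finset.card_le_two
      rw [Finset.card_univ, ← Nat.card_eq_fintype_card] at h1
      omega
    obtain ⟨t, ht, h1, h2⟩ := hgood y v _ hk (Or.inr hy1) (Or.inr hy2)
    have ht' := (Finset.mem_sdiff.1 ht).2
    rw [Finset.mem_insert, Finset.mem_singleton] at ht'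
    push Not at ht'
    have := hline y (t • v) (key y hy hy1 hy2) (key _ (T.add_mem hy (T.smul_mem t hv)) h1 h2)
    rw [S.smulU, S.sym.smul_left, S.smulU] at this
    refine ht'.2 ?_
    rw [eq_div_iff hvv]
    exact mul_left_cancel₀ ht'.1 (by linear_combination this)
  · obtain ⟨t, ⟨ht, ht1, ht2⟩, ht0⟩ : ∃ t, (t ∈ T ∧ t ⬝ᵥ φ = 0 ∧ fU t x₀ = 0) ∧ t ≠ 0 := by
      obtain ⟨t, h1, h2⟩ := exists_ker_notMem ((dots ![φ, cov fU x₀]).comp T.subtype) ⊥
        (by rw [finrank_bot, Module.finrank_fin_fun]; omega)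
      have h3 : ∀ i, ![φ, cov fU x₀] i ⬝ᵥ (t : Fin r → F) = 0 := fun i => congrFun h1 i
      refine ⟨t, ⟨t.2, ?_, ?_⟩, fun e => h2 ?_⟩
      · rw [dotProduct_comm]; exact h3 0
      · rw [← S.sym.dot_cov, dotProduct_comm]; exact h3 1
      · exact (Submodule.mem_bot F).2 (Subtype.ext e)
    have hout : ∀ z ∈ T, z ⬝ᵥ φ ≠ 0 → fU z x₀ ≠ 0 → fU z t = 0 := fun z hz h1 h2 => by
      have e1 := hline z t (key z hz h1 h2) (key _ (T.add_mem hz ht)
        (by rwa [add_dotProduct, ht1, add_zero]) (by rwa [S.sym.add_left, ht2, add_zero]))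
      have e2 := hline z ((-1 : F) • t) (key z hz h1 h2) (key _ (T.add_mem hz (T.smul_mem _ ht))
        (by rwa [add_dotProduct, smul_dotProduct, ht1, smul_zero, add_zero])
        (by rwa [S.sym.add_left, S.sym.smul_left, ht2, mul_zero, add_zero]))
      rw [S.smulU, S.sym.smul_left, S.smulU] at e2
      refine (mul_eq_zero.1 ?_).resolve_left (mul_ne_zero S.two S.two)
      linear_combination e1 - e2
    refine ht0 (hT t ht fun x hx => ?_)
    have hk : 2 < ({0, 1, -1} : Finset F).card := by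
      have h1 : (1 : F) ∉ ({-1} : Finset F) := fun e => S.two (by
        rw [Finset.mem_singleton] at e; linear_combination e)
      have h0 : (0 : F) ∉ ({1, -1} : Finset F) := by simp
      rw [Finset.card_insert_of_notMem h0, Finset.card_insert_of_notMem h1, Finset.card_singleton]
      omega
    obtain ⟨k, -, h1, h2⟩ := hgood x y _ hk (Or.inl hy1) (Or.inl hy2)
    have := hout _ (T.add_mem hx (T.smul_mem k hy)) h1 h2
    rw [S.sym.add_left, S.sym.smul_left, hout y hy hy1 hy2, mul_zero, add_zero] at this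
    rw [S.symU x t]; exact this

theorem span_aniso [Finite F] (R : Submodule F (Fin r → F)) (h : ∀ v, fU v v ≠ 0 → v ∈ R) (x : Fin r → F) :
    x ∈ R := by
  have hd : 5 ≤ Nat.card F ∨ 3 ≤ Module.finrank F (⊤ : Submodule F (Fin r → F)) :=
    Or.inr (by rw [finrank_top, Module.finrank_fin_fun]; exact S.three_le)
  by_cases hne : R = ⊥
  · have hq : ∀ v, fU v v = 0 := fun v => by
      by_contra hv
      have := h v hv
      rw [hne, Submodule.mem_bot] at this
      exact hv (by rw [this, S.sym.zero_left])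
    have : x = 0 := S.extU fun u => by
      have h1 := hq (x + u)
      rw [S.sym.add_left, S.sym.add_right, S.sym.add_right, hq, hq, S.symU x u] at h1
      rw [S.sym.zero_left]
      exact (mul_eq_zero.1 (show 2 * fU x u = 0 by linear_combination h1)).resolve_left S.two
    rw [this]; exact R.zero_mem
  · rw [S.split_eq (T := ⊤) (fun y _ hy => S.extU fun u => by rw [hy u Submodule.mem_top, S.sym.zero_left]) hd
      le_top hne fun v _ hv => Or.inl (h v hv)]
    exact Submodule.mem_top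

end MSetup

end Cfsg.Agent.Lib.TensorMixed
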