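import Cfsg.Agent.Lib.TensorMixed.Two

/-!
A non-scalar central element gives a transvection subgroup at a pure singular vector.
-/

set_option autoImplicit false
set_option linter.unusedSectionVars false

namespace Cfsg.Agent.Lib.TensorMixed

open Matrix Cfsg.Agent.Lib Cfsg.Agent.Lib.TensorMax Cfsg.Agent.Lib.TensorForm

variable {F : Type*} [Field F] {r s : ℕ}
  {fU : (Fin r → F) → (Fin r → F) → F} {fA : (Fin s → F) → (Fin s → F) → F}
  {M : Subgroup (GL (Fin r × Fin s) F)}

/-- The vectors all of whose transvections lie in `M`. -/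
def Root (fU : (Fin r → F) → (Fin r → F) → F) (fA : (Fin s → F) → (Fin s → F) → F)
    (M : Subgroup (GL (Fin r × Fin s) F)) (X : Matrix (Fin r) (Fin s) F) : Prop :=
  ∀ l : F, ∃ g ∈ M, ∀ Y, op g Y = Y + (l * tB fU fA Y X) • X

/-- `x ↦ f(x,w) u + f(x,u) w`. -/
def sm {fU : (Fin r → F) → (Fin r → F) → F} (hU : IsSForm (RingHom.id F) 1 fU) (u w : Fin r → F) :
    (Fin r → F) →ₗ[F] (Fin r → F) :=
  rk1 hU u w + rk1 hU w u

namespace MSetup

variable (S : MSetup fU fA M)
include S

theorem sm_apply (u w x : Fin r → F) : sm S.sym u w x = fU x w • u + fU x u • w := rfl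

theorem sm_conj {α α' : (Fin r → F) →ₗ[F] (Fin r → F)} (hα' : ∀ u v, fU u (α' v) = fU (α u) v)
    (u w : Fin r → F) : α.comp ((sm S.sym u w).comp α') = sm S.sym (α u) (α w) := by
  refine LinearMap.ext fun x => ?_
  simp only [LinearMap.comp_apply, S.sm_apply, map_add, map_smul]
  rw [S.symU w (α' x), hα', S.symU u (α' x), hα', S.symU x (α w), S.symU x (α u)]

theorem sm_add (u w w' : Fin r → F) : sm S.sym u (w + w') = sm S.sym u w + sm S.sym u w' := by
  refine LinearMap.ext fun x => ?_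
  simp only [LinearMap.add_apply, S.sm_apply, S.sym.add_right]
  module

theorem sm_smul (l : F) (u w : Fin r → F) : sm S.sym u (l • w) = l • sm S.sym u w := by
  refine LinearMap.ext fun x => ?_
  simp only [LinearMap.smul_apply, S.sm_apply, S.smulU]
  module

theorem refl_adj (u x y : Fin r → F) : fU x (refl S.sym u y) = fU (refl S.sym u x) y := by
  simp only [S.refl_apply, S.sym.sub_left, S.sym.sub_right, S.sym.smul_left, S.smulU]
  rw [S.symU y u]
  ring

theorem cent_sq {c : Fin s → F} (hc : c ≠ 0) {Z : (Fin r → F) →ₗ[F] (Fin r → F)} (h : Cent M fA c Z)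
    (ν : F) : Cent M fA c ((ν * ν) • Z) := by
  rcases eq_or_ne ν 0 with rfl | hν
  · rw [mul_zero, zero_smul]; exact S.cent_zero c
  obtain ⟨e₀, he₀⟩ := S.alt.form.exists_partner hc
  have hce : fA c e₀ = -1 := by rw [S.alt.swap e₀ c, he₀]
  let β : (Fin s → F) →ₗ[F] (Fin s → F) :=
    LinearMap.id + (ν⁻¹ - 1) • rk1 S.alt.form e₀ c + (1 - ν) • rk1 S.alt.form c e₀
  have hβx : ∀ x, β x = x + ((ν⁻¹ - 1) * fA x c) • e₀ + ((1 - ν) * fA x e₀) • c := fun x => by
    simp only [β, LinearMap.add_apply, LinearMap.smul_apply, LinearMap.id_apply, rk1_apply, smul_smul]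
  have hβ : ∀ x y, fA (β x) (β y) = fA x y := fun x y => by
    simp only [hβx, S.alt.form.add_left, S.alt.form.add_right, S.alt.form.smul_left, S.smulA, S.alt.self, he₀, hce]
    rw [S.alt.swap y e₀, S.alt.swap y c]
    field_simp
    ring
  obtain ⟨k, hk, -, hkp⟩ := S.exists_sp hβ
  have hβc : β c = ν • c := by
    rw [hβx, S.alt.self, hce, mul_zero, zero_smul, add_zero]
    module
  have h' := S.cent_conj hk (α := ν • LinearMap.id) (α' := ν • LinearMap.id)
    (fun u v => by simp [S.smulU, S.sym.smul_left])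
    (fun u => by rw [hkp, hβc, pure_smul_right, ← pure_smul_left]; rfl) h
  convert h' using 1
  exact LinearMap.ext fun x => by simp [smul_smul]

theorem cent_smul {c : Fin s → F} (hc : c ≠ 0) {Z : (Fin r → F) →ₗ[F] (Fin r → F)} (h : Cent M fA c Z)
    (l : F) : Cent M fA c (l • Z) := by
  have h' := S.cent_add (S.cent_sq hc h ((l + 1) / 2)) (S.cent_neg (S.cent_sq hc h ((l - 1) / 2)))
  convert h' using 1
  refine LinearMap.ext fun x => ?_
  simp only [LinearMap.add_apply, LinearMap.neg_apply, LinearMap.smul_apply]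
  have := S.two
  match_scalars
  field_simp
  ring

theorem cent_selfadj {c e₀ : Fin s → F} (he₀ : fA e₀ c = 1) {Z : (Fin r → F) →ₗ[F] (Fin r → F)}
    (h : Cent M fA c Z) (u v : Fin r → F) : fU (Z u) v = fU u (Z v) := by
  obtain ⟨g, hg, hX⟩ := h
  have hce : fA c e₀ = -1 := by rw [S.alt.swap e₀ c, he₀]
  have h1 := S.iso g hg (vecMulVec u e₀) (vecMulVec v e₀)
  simp only [hX, S.kap_pure, he₀, one_smul, S.B_add_left, S.B_add_right, S.B_pure_pure, S.alt.self, hce,
    zero_mul, zero_add, add_zero] at h1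
  linear_combination -h1

variable [Finite F]

/-- A non-scalar central element gives a pure singular root. -/
theorem exists_root (hT : ¬ CentScalar M fA) :
    ∃ z c, z ≠ 0 ∧ fU z z = 0 ∧ c ≠ 0 ∧ Root fU fA M (vecMulVec z c) := by
  classical
  unfold CentScalar at hT
  push Not at hT
  obtain ⟨c, hc, Z, hZ, hns⟩ := hT
  obtain ⟨e₀, he₀⟩ := S.alt.form.exists_partner hc
  have hadj := S.cent_selfadj he₀ hZ
  have hr := S.three_le
  -- an anisotropic vector that is no eigenvector
  obtain ⟨u, hu, hueig⟩ : ∃ u, fU u u ≠ 0 ∧ ∀ l : F, Z u ≠ l • u := by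
    by_contra hno
    push Not at hno
    obtain ⟨u₀, hu₀⟩ : ∃ u, fU u u ≠ 0 := by
      by_contra h
      push Not at h
      obtain ⟨x, hx⟩ := hns 0
      exact hx (by
        rw [zero_smul]
        exact (Submodule.mem_bot F).1 (S.span_aniso ⊥ (fun v hv => absurd (h v) hv) (Z x)))
    obtain ⟨l, hl⟩ := hno u₀ hu₀
    let E : Submodule F (Fin r → F) := LinearMap.ker (Z - l • LinearMap.id)
    have hE : ∀ x, x ∈ E ↔ Z x = l • x := fun x => by simp [E, sub_eq_zero]
    have htop : E = ⊤ := S.split_eq (T := ⊤)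
      (fun x _ hx => S.extU fun v => by rw [hx v Submodule.mem_top, S.sym.zero_left])
      (Or.inr (by rw [finrank_top, Module.finrank_fin_fun]; omega)) le_top
      (fun e => hu₀ (by
        have : u₀ ∈ (⊥ : Submodule F (Fin r → F)) := e ▸ (hE u₀).2 hl
        rw [(Submodule.mem_bot F).1 this, S.sym.zero_left]))
      fun v _ hv => by
        obtain ⟨μ, hμ⟩ := hno v hv
        by_cases hlm : μ = l
        · exact Or.inl ((hE v).2 (hlm ▸ hμ))
        · refine Or.inr fun x hx => ?_
          have h := hadj v x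
          rw [hμ, (hE x).1 hx, S.sym.smul_left, S.smulU] at h
          exact (mul_eq_zero.1 (show (μ - l) * fU v x = 0 by linear_combination h)).resolve_left
            (sub_ne_zero.2 hlm)
    obtain ⟨x, hx⟩ := hns l
    exact hx ((hE x).1 (htop ▸ Submodule.mem_top))
  set k := 2 / fU u u with hk
  set w₀ := Z u - (fU (Z u) u / fU u u) • u with hw₀
  have hw₀u : fU w₀ u = 0 := by
    rw [hw₀, S.sym.sub_left, S.sym.smul_left, div_mul_cancel₀ _ hu, sub_self]
  have hw₀0 : w₀ ≠ 0 := fun e => hueig _ (sub_eq_zero.1 e)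
  obtain ⟨gu, hgu, -, hgup, -⟩ := S.exists_ortho (α := refl S.sym u) (S.refl_iso hu)
  have hsm₀ : Cent M fA c (sm S.sym u w₀) := by
    have h := S.cent_add hZ (S.cent_neg (S.cent_conj hgu (α' := refl S.sym u) (S.refl_adj u) (fun v => hgup v c) hZ))
    have e : Z + -(refl S.sym u).comp (Z.comp (refl S.sym u)) = k • sm S.sym u w₀ := by
      refine LinearMap.ext fun x => ?_
      simp only [LinearMap.add_apply, LinearMap.neg_apply, LinearMap.comp_apply, LinearMap.smul_apply, S.sm_apply,
        S.refl_apply, map_sub, map_smul, ← hk, S.sym.sub_left, S.sym.smul_left, hw₀, S.sym.sub_right, S.smulU]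
      rw [← hadj x u, hk]
      match_scalars <;> field_simp <;> ring
    rw [e] at h
    have := S.cent_smul hc h k⁻¹
    rwa [smul_smul, inv_mul_cancel₀ (div_ne_zero S.two hu), one_smul] at this
  -- the set of partners of an anisotropic vector is its whole orthogonal
  let Sm : (Fin r → F) → Submodule F (Fin r → F) := fun a =>
    { carrier := {w | fU w a = 0 ∧ Cent M fA c (sm S.sym a w)}
      zero_mem' := ⟨S.sym.zero_left a, by
        rw [show (0 : Fin r → F) = (0 : F) • a by rw [zero_smul], S.sm_smul, zero_smul]; exact S.cent_zero c⟩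
      add_mem' := fun {p q} hp hq => ⟨by rw [S.sym.add_left, hp.1, hq.1, add_zero],
        by rw [S.sm_add]; exact S.cent_add hp.2 hq.2⟩
      smul_mem' := fun l {p} hp => ⟨by rw [S.sym.smul_left, hp.1, mul_zero],
        by rw [S.sm_smul]; exact S.cent_smul hc hp.2 l⟩ }
  have hfull : ∀ a w, fU a a ≠ 0 → w ≠ 0 → fU w a = 0 → Cent M fA c (sm S.sym a w) →
      ∀ x, fU x a = 0 → Cent M fA c (sm S.sym a x) := by
    intro a w ha hw hwa hC x hx
    let T : Submodule F (Fin r → F) := LinearMap.ker (S.Ul a)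
    have hT : ∀ y, y ∈ T ↔ fU y a = 0 := fun y => by
      rw [S.symU a y]; exact LinearMap.mem_ker
    have heq : Sm a = T := by
      refine S.split_eq ?_ ?_ (fun y hy => (hT y).2 hy.1) (fun e => hw ?_) ?_
      · intro y hy hperp
        refine S.extU fun z => ?_
        have hz := hperp (z - (fU z a / fU a a) • a) ((hT _).2 (by
          rw [S.sym.sub_left, S.sym.smul_left, div_mul_cancel₀ _ ha, sub_self]))
        rw [S.sym.sub_right, S.smulU, (hT y).1 hy, mul_zero, sub_zero] at hz
        rw [hz, S.sym.zero_left]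
      · refine S.field.imp id fun h4 => ?_
        have h1 := (S.Ul a).finrank_range_add_finrank_ker
        have h2 := Submodule.finrank_le (LinearMap.range (S.Ul a))
        rw [Module.finrank_fin_fun] at h1
        rw [Module.finrank_self] at h2
        show 3 ≤ Module.finrank F (LinearMap.ker (S.Ul a))
        omega
      · exact (Submodule.mem_bot F).1 (e ▸ (⟨hwa, hC⟩ : w ∈ Sm a))
      · intro v hv hvv
        by_cases hperp : ∀ y ∈ Sm a, fU v y = 0
        · exact Or.inr hperp
        left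
        push Not at hperp
        obtain ⟨y, hy, hvy⟩ := hperp
        obtain ⟨gv, hgv, -, hgvp, -⟩ := S.exists_ortho (α := refl S.sym v) (S.refl_iso hvv)
        have h := S.cent_conj hgv (α' := refl S.sym v) (S.refl_adj v) (fun z => hgvp z c) hy.2
        have hva : fU v a = 0 := (hT v).1 hv
        rw [S.sm_conj (S.refl_adj v), S.refl_fix v (show fU a v = 0 by rw [S.symU v a]; exact hva)] at h
        have hmem : refl S.sym v y ∈ Sm a := ⟨by
          rw [S.refl_apply, S.sym.sub_left, S.sym.smul_left, hy.1, hva, mul_zero, sub_zero], h⟩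
        have h' := (Sm a).sub_mem hy hmem
        rw [S.refl_apply, sub_sub_cancel] at h'
        exact (Submodule.smul_mem_iff _ (mul_ne_zero (div_ne_zero S.two hvv) (by rwa [S.symU v y]))).1 h'
    exact ((heq.symm ▸ (hT x).2 hx : x ∈ Sm a)).2
  -- an anisotropic vector and a singular vector orthogonal to it
  obtain ⟨z₀, -, hz₀, hz₀z⟩ := S.exists_sing ⊤ (by rw [finrank_top, Module.finrank_fin_fun]; omega)
  obtain ⟨w, hw, hz₀w, hC⟩ : ∃ w, fU w w ≠ 0 ∧ fU z₀ w = 0 ∧ Cent M fA c (sm S.sym w z₀) := by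
    by_cases hzu : fU z₀ u = 0
    · exact ⟨u, hu, hzu, hfull u w₀ hu hw₀0 hw₀u hsm₀ z₀ hzu⟩
    obtain ⟨w, hwu, hwz, hw⟩ : ∃ w, fU w u = 0 ∧ fU w z₀ = 0 ∧ fU w w ≠ 0 := by
      by_contra hno
      push Not at hno
      obtain ⟨x, hx, hx0⟩ := S.exists_orth ![u, z₀] ⊥ (by rw [finrank_bot]; omega)
      have hxu : fU x u = 0 := hx 0
      have hxz : fU x z₀ = 0 := hx 1
      refine hx0 ((Submodule.mem_bot F).2 (S.extU fun y => ?_))
      have huz : fU u z₀ ≠ 0 := by rwa [S.symU z₀ u]
      set a := fU y z₀ / fU u z₀ with ha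
      set b := (fU y u - a * fU u u) / fU z₀ u with hb
      set y' := y - a • u - b • z₀ with hy'
      have h1 : fU y' z₀ = 0 := by
        rw [hy', S.sym.sub_left, S.sym.sub_left, S.sym.smul_left, S.sym.smul_left, hz₀z, ha,
          div_mul_cancel₀ _ huz, mul_zero, sub_self, sub_zero]
      have h2 : fU y' u = 0 := by
        rw [hy', S.sym.sub_left, S.sym.sub_left, S.sym.smul_left, S.sym.smul_left, hb, div_mul_cancel₀ _ hzu]
        ring
      have q1 := hno x hxu hxz
      have q2 := hno y' h2 h1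
      have q3 := hno (x + y') (by rw [S.sym.add_left, hxu, h2, add_zero]) (by rw [S.sym.add_left, hxz, h1, add_zero])
      rw [S.sym.add_left, S.sym.add_right, S.sym.add_right, q1, q2, S.symU x y'] at q3
      have q4 : fU x y' = 0 := (mul_eq_zero.1 (show 2 * fU x y' = 0 by linear_combination q3)).resolve_left S.two
      rw [hy', S.sym.sub_right, S.sym.sub_right, S.smulU, S.smulU, hxu, hxz, mul_zero, mul_zero, sub_zero,
        sub_zero] at q4
      rw [q4, S.sym.zero_left]
    refine ⟨w, hw, by rw [S.symU w z₀]; exact hwz, ?_⟩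
    have h : Cent M fA c (sm S.sym w u) := by
      rw [show sm S.sym w u = sm S.sym u w from add_comm _ _]
      exact hfull u w₀ hu hw₀0 hw₀u hsm₀ w hwu
    exact hfull w u hw (fun e => hu (by rw [e, S.sym.zero_left])) (by rw [S.symU w u]; exact hwu) h z₀
      (by rw [S.symU w z₀]; exact hwz)
  have hwz : w ∉ F ∙ z₀ := fun hmem => by
    obtain ⟨l, rfl⟩ := Submodule.mem_span_singleton.1 hmem
    exact hw (by rw [S.sym.smul_left, S.smulU, hz₀z, mul_zero, mul_zero])
  obtain ⟨v, hv, hvw⟩ := S.exists_dual_out hwz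
  have hvz : fU v z₀ = 0 := hv z₀ (Submodule.mem_span_singleton_self z₀)
  have hzv : fU z₀ v = 0 := by rw [S.symU v z₀]; exact hvz
  set h₂ := fU v v / 2
  let α : (Fin r → F) →ₗ[F] (Fin r → F) := LinearMap.id + rk1 S.sym v z₀ - rk1 S.sym z₀ v - h₂ • rk1 S.sym z₀ z₀
  let α' : (Fin r → F) →ₗ[F] (Fin r → F) := LinearMap.id - rk1 S.sym v z₀ + rk1 S.sym z₀ v - h₂ • rk1 S.sym z₀ z₀
  have hαx : ∀ x, α x = x + fU x z₀ • v - fU x v • z₀ - (h₂ * fU x z₀) • z₀ := fun x => by
    show x + fU x z₀ • v - fU x v • z₀ - h₂ • (fU x z₀ • z₀) = _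
    rw [smul_smul]
  have hα'x : ∀ x, α' x = x - fU x z₀ • v + fU x v • z₀ - (h₂ * fU x z₀) • z₀ := fun x => by
    show x - fU x z₀ • v + fU x v • z₀ - h₂ • (fU x z₀ • z₀) = _
    rw [smul_smul]
  have hα' : ∀ p q, fU p (α' q) = fU (α p) q := fun p q => by
    simp only [hαx, hα'x, S.sym.add_left, S.sym.add_right, S.sym.sub_left, S.sym.sub_right, S.sym.smul_left, S.smulU]
    rw [S.symU q z₀, S.symU q v]
    ring
  have hα : ∀ p q, fU (α p) (α q) = fU p q := fun p q => by
    simp only [hαx, S.sym.add_left, S.sym.add_right, S.sym.sub_left, S.sym.sub_right, S.sym.smul_left, S.smulU,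
      hz₀z, hvz, hzv]
    linear_combination (fU p z₀) * S.symU q v - (fU p v) * S.symU q z₀ - h₂ * fU p z₀ * S.symU q z₀
      - fU p z₀ * fU q z₀ * div_mul_cancel₀ (fU v v) S.two
  obtain ⟨ga, hga, -, hgap, -⟩ := S.exists_ortho hα
  have h := S.cent_conj hga hα' (fun y => hgap y c) hC
  have hαz : α z₀ = z₀ := by
    rw [hαx, hz₀z, hzv, mul_zero, zero_smul, zero_smul, add_zero, sub_zero, sub_zero]
  have hαw : α w = w - z₀ := by
    rw [hαx, show fU w z₀ = 0 by rw [S.symU z₀ w]; exact hz₀w, show fU w v = 1 by rw [S.symU v w]; exact hvw,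
      mul_zero, zero_smul, one_smul, add_zero, zero_smul, sub_zero]
  rw [S.sm_conj hα', hαw, hαz] at h
  have h' := S.cent_add h (S.cent_neg hC)
  have e : sm S.sym (w - z₀) z₀ + -sm S.sym w z₀ = (-2 : F) • rk1 S.sym z₀ z₀ := by
    refine LinearMap.ext fun x => ?_
    simp only [LinearMap.add_apply, LinearMap.neg_apply, LinearMap.smul_apply, S.sm_apply, rk1_apply, S.sym.sub_right]
    module
  rw [e] at h'
  refine ⟨z₀, c, hz₀, hz₀z, hc, fun l => ?_⟩
  obtain ⟨g, hg, hX⟩ := S.cent_smul hc h' (-l / 2)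
  refine ⟨g, hg, fun Y => ?_⟩
  rw [hX, S.B_pure, ← pure_smul_left]
  congr 2
  simp only [LinearMap.smul_apply, rk1_apply, smul_smul]
  congr 1
  field_simp [S.two]

end MSetup

end Cfsg.Agent.Lib.TensorMixed
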