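import Cfsg.Agent.Lib.TensorMixed.Stab

/-!
The pairing map of a non-Kronecker element is not nilpotent.
-/

set_option autoImplicit false
set_option linter.unusedSectionVars false

namespace Cfsg.Agent.Lib.TensorMixed

open Matrix Cfsg.Agent.Lib Cfsg.Agent.Lib.TensorMax Cfsg.Agent.Lib.TensorForm

variable {F : Type*} [Field F] [Finite F] {r s : ℕ}
  {fU : (Fin r → F) → (Fin r → F) → F} {fA : (Fin s → F) → (Fin s → F) → F}
  {M : Subgroup (GL (Fin r × Fin s) F)}

namespace MSetup

variable (S : MSetup fU fA M)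
include S

/-- The form as a good form. -/
theorem goodB : Forms.IsGoodForm (V := Matrix (Fin r) (Fin s) F) S.Bl (-1) := by
  refine Forms.IsGoodForm.of_isAlt (fun X => ?_) ⟨fun X hX => S.B_nondeg fun Y => hX Y, fun Y hY => ?_⟩
  · have h := S.B_swap X X
    exact (mul_eq_zero.1 (show 2 * tB fU fA X X = 0 by linear_combination h)).resolve_left S.two
  · exact S.B_nondeg fun X => by rw [S.B_swap X Y, ← S.Bl_apply, hY, neg_zero]

/-- Membership in a sum from orthogonality. -/
theorem mem_of_perp (T : Submodule F (Matrix (Fin r) (Fin s) F)) {Y : Matrix (Fin r) (Fin s) F}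
    (h : ∀ Z, (∀ X ∈ T, tB fU fA X Z = 0) → tB fU fA Z Y = 0) : Y ∈ T := by
  rw [← S.goodB.perp_perp T]
  exact fun Z hZ => h Z hZ

/-- The conjugate of a transvection and its pairing. -/
theorem exists_escape (T : CentScalar M fA) {c : Fin s → F} (hc : c ≠ 0) {g : GL (Fin r × Fin s) F}
    (hg : g ∈ M) (hgK : g ∉ Cfsg.Geo.kroneckerSubgroup r s F) {πa : (Fin r → F) →ₗ[F] (Fin r → F)}
    (hπa : ∀ u v, fU u (πa v) = fU (pim fA c g u) v) :
    ∃ y ∈ M, y ∉ Cfsg.Geo.kroneckerSubgroup r s F ∧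
      (∀ u, op y (vecMulVec u c) = vecMulVec u c - op g (vecMulVec (πa u) c)) ∧
      pim fA c y = -(pim fA c g).comp πa := by
  obtain ⟨t, ht, -, htX⟩ := S.exists_transA c 1
  have htX' : ∀ X, op t X = X + vecMulVec (kap fA c X) c := fun X => by rw [htX, one_smul]
  have hyc : ∀ u, op (g * t * g⁻¹) (vecMulVec u c) = vecMulVec u c - op g (vecMulVec (πa u) c) := fun u => by
    have h : kap fA c (op g⁻¹ (vecMulVec u c)) = -πa u := S.extU fun v => by
      rw [← S.B_pure, ← S.iso g hg, op_op_inv, S.B_pure_left, S.sym.neg_left, S.symU v (πa u), hπa]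
      rfl
    rw [op_mul, op_mul, htX', map_add, op_op_inv, h, pure_neg_left, map_neg, sub_eq_add_neg]
  refine ⟨g * t * g⁻¹, M.mul_mem (M.mul_mem hg ht) (M.inv_mem hg),
    fun h => hgK (S.kron_of_conj T hc hg htX' h), hyc, LinearMap.ext fun u => ?_⟩
  show kap fA c (op (g * t * g⁻¹) (vecMulVec u c)) = -(pim fA c g (πa u))
  rw [hyc, map_sub, S.kap_self, zero_sub]
  rfl

/-- A non-Kronecker element does not map a pure space into its orthogonal. -/
theorem pim_ne_zero (T : CentScalar M fA) {c : Fin s → F} (hc : c ≠ 0) {g : GL (Fin r × Fin s) F}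
    (hg : g ∈ M) (hgK : g ∉ Cfsg.Geo.kroneckerSubgroup r s F) : pim fA c g ≠ 0 := by
  intro h0
  obtain ⟨y, hy, hyK, hyc, -⟩ := S.exists_escape T hc hg hgK (πa := 0) fun u v => by
    rw [h0, LinearMap.zero_apply, LinearMap.zero_apply, S.sym.zero_right, S.sym.zero_left]
  exact hyK (S.kron_of_fix T hc hy fun x => by
    rw [hyc, LinearMap.zero_apply, pure_zero_left, map_zero, sub_zero])

theorem adj_comp {L La : (Fin r → F) →ₗ[F] (Fin r → F)} (h : ∀ u v, fU u (La v) = fU (L u) v)
    (u v : Fin r → F) : fU u ((-L.comp La) v) = fU ((-L.comp La) u) v := by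
  simp only [LinearMap.neg_apply, LinearMap.comp_apply]
  rw [← neg_one_smul F (L (La v)), S.smulU, S.sym.neg_left, S.symU (L (La v)) u, ← h (La v) u,
    S.symU (La u) (La v), h]
  ring

theorem not_nilpotent (T : CentScalar M fA) {c : Fin s → F} (hc : c ≠ 0) {g : GL (Fin r × Fin s) F}
    (hg : g ∈ M) (hgK : g ∉ Cfsg.Geo.kroneckerSubgroup r s F) {πa : (Fin r → F) →ₗ[F] (Fin r → F)}
    (hπa : ∀ u v, fU u (πa v) = fU (pim fA c g u) v) :
    ∃ u, pim fA c g (πa (pim fA c g (πa u))) ≠ 0 := by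
  obtain ⟨y, hy, hyK, -, hyp⟩ := S.exists_escape T hc hg hgK hπa
  obtain ⟨z, hz, hzK, -, hzp⟩ := S.exists_escape T hc hy hyK (πa := pim fA c y) fun u v => by
    rw [hyp]; exact S.adj_comp hπa u v
  by_contra hno
  push Not at hno
  refine S.pim_ne_zero T hc hz hzK ?_
  rw [hzp, hyp]
  refine LinearMap.ext fun u => ?_
  simp only [LinearMap.neg_apply, LinearMap.comp_apply, map_neg, neg_neg, hno, neg_zero, LinearMap.zero_apply]

end MSetup

end Cfsg.Agent.Lib.TensorMixed
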