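import Cfsg.Agent.Lib.Coprime.Sylow
import Mathlib.GroupTheory.Transfer
import Mathlib.GroupTheory.Nilpotent

/-!
No proper abelian self-normalising `p`-subgroup contains an element acting quadratically, `p` odd.
-/

set_option autoImplicit false
set_option linter.unusedSectionVars false

namespace Cfsg.Agent.Lib.TensorMixed

/-- Commuting `p'`-elements permuted by a quadratic element are centralised by it. -/
theorem commute_of_quadratic {F E : Type*} [Field F] [Ring E] [Algebra F E] [Nontrivial E] {p : ℕ}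
    [Fact p.Prime] [CharP F p] (h2 : (2 : F) ≠ 0) {x a b c : E} (hx : x * x - 2 • x + 1 = 0)
    (h1 : x * a = b * x) (h1' : x * b = c * x) (hab : Commute a b) (hac : Commute a c) (hbc : Commute b c)
    {m : ℕ} (hm : ¬ p ∣ m) (ha : a ^ m = 1) (hb : b ^ m = 1) (hc : c ^ m = 1) : x * a = a * x := by
  obtain ⟨d₁, hd₁⟩ : ∃ d, d = b - a := ⟨_, rfl⟩
  obtain ⟨d₂, hd₂⟩ : ∃ d, d = c - b := ⟨_, rfl⟩
  have hhalf : ∀ z w : E, (2 : F) • z = (2 : F) • w → z = w := fun z w h => smul_right_injective E h2 h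
  have hxx : x * x = (2 : F) • x - 1 := by
    rw [show (2 : F) • x = 2 • x by rw [two_smul, two_nsmul]]
    exact eq_sub_of_add_eq (by linear_combination (norm := abel) hx)
  have e0 : (2 : F) • (d₂ * x) = d₁ + d₂ := by
    have e : x * x * a = c * (x * x) := by rw [mul_assoc, h1, ← mul_assoc, h1', mul_assoc]
    rw [hxx, sub_mul, mul_sub, one_mul, mul_one, smul_mul_assoc, mul_smul_comm, h1] at e
    rw [hd₁, hd₂, sub_mul, smul_sub]
    linear_combination (norm := module) -e
  obtain ⟨S, hS⟩ : ∃ S, S = d₂ * x := ⟨_, rfl⟩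
  rw [← hS] at e0
  have eS : x * d₁ = S := by rw [hS, hd₁, hd₂, mul_sub, sub_mul, h1, h1']
  have eSx : S * x = d₁ := by
    rw [hS, mul_assoc, hxx, mul_sub, mul_one, mul_smul_comm, ← hS, e0, add_sub_cancel_right]
  have exS : x * S = d₂ := by
    rw [← eS, ← mul_assoc, hxx, sub_mul, one_mul, smul_mul_assoc, eS, e0, add_sub_cancel_left]
  have cd : Commute d₁ d₂ := by
    rw [hd₁, hd₂]
    exact ((hbc.sub_right (Commute.refl b)).sub_left (hac.sub_right hab))
  have hSd : ∀ z, Commute z d₁ → Commute z d₂ → Commute z S := fun z u v => by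
    refine hhalf _ _ ?_
    rw [← mul_smul_comm, ← smul_mul_assoc, e0]
    exact u.add_right v
  have c1 : Commute d₁ S := hSd _ (Commute.refl _) cd
  have c2 : Commute d₂ S := hSd _ cd.symm (Commute.refl _)
  have e12 : d₁ * S = d₂ * S := by rw [← eSx, mul_assoc, exS, c2.eq]
  have eSS : d₁ * S = S * S := by
    refine hhalf _ _ ?_
    rw [← smul_mul_assoc (2 : F) S S, e0, add_mul, ← e12, two_smul]
  have e1d : d₁ * d₂ = S * S := by
    have h : d₁ * d₂ = (2 : F) • (S * x * S) - S * S := by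
      conv_lhs => rw [← eSx, ← exS]
      rw [show S * x * (x * S) = S * (x * x) * S by simp only [mul_assoc], hxx, mul_sub, sub_mul, mul_one,
        mul_smul_comm, smul_mul_assoc]
    rw [h, eSx, eSS, two_smul, add_sub_cancel_right]
  have e11 : d₁ * d₁ = S * S := by
    have h : d₁ = (2 : F) • S - d₂ := by rw [e0, add_sub_cancel_right]
    conv_lhs => arg 2; rw [h]
    rw [mul_sub, mul_smul_comm, eSS, e1d, two_smul, add_sub_cancel_right]
  have e22 : d₂ * d₂ = S * S := by
    have h : d₂ = (2 : F) • S - d₁ := by rw [e0, add_sub_cancel_left]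
    conv_lhs => arg 2; rw [h]
    rw [mul_sub, mul_smul_comm, ← e12, eSS, ← cd.eq, e1d, two_smul, add_sub_cancel_right]
  have hsq : (d₂ - d₁) * (d₂ - d₁) = 0 := by
    rw [sub_mul, mul_sub, mul_sub, e22, e11, e1d, ← cd.eq, e1d]
    abel
  haveI : CharP E p := charP_of_injective_algebraMap (algebraMap F E).injective p
  haveI : ExpChar E p := ExpChar.prime Fact.out
  have hm0 : m ≠ 0 := fun e => hm (e ▸ dvd_zero p)
  have hcop : Nat.Coprime p m := (Fact.out : p.Prime).coprime_iff_not_dvd.2 hm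
  set k := m.totient
  have hmod : p ^ k ≡ 1 [MOD m] := Nat.ModEq.pow_totient hcop
  have hQ : ∀ z : E, z ^ m = 1 → z ^ p ^ k = z := fun z hz => by
    conv_rhs => rw [← pow_one z]
    rw [pow_eq_pow_mod _ hz, show p ^ k % m = 1 % m from hmod, ← pow_eq_pow_mod _ hz]
  have hfix : (d₂ - d₁) ^ p ^ k = d₂ - d₁ := by
    rw [sub_pow_expChar_pow_of_commute p k cd.symm, hd₁, hd₂, sub_pow_expChar_pow_of_commute p k hbc.symm,
      sub_pow_expChar_pow_of_commute p k hab.symm, hQ a ha, hQ b hb, hQ c hc]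
  have heq : d₂ = d₁ := by
    have h2k : 2 ≤ p ^ k := le_trans (Fact.out : p.Prime).two_le
      (Nat.le_self_pow (Nat.totient_pos.2 (Nat.pos_of_ne_zero hm0)).ne' p)
    rw [← pow_mul_pow_sub (d₂ - d₁) h2k, sq, hsq, zero_mul] at hfix
    exact sub_eq_zero.1 hfix.symm
  have hSeq : S = d₁ := hhalf _ _ (by rw [e0, heq, two_smul])
  have hdx : d₁ * x = d₁ := by rw [hSeq] at eSx; exact eSx
  have hxa : x * a = a * x + d₁ := by
    rw [h1, show b = a + d₁ by rw [hd₁, add_sub_cancel], add_mul, hdx]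
  have hda : d₁ * a = a * d₁ := by rw [hd₁, sub_mul, mul_sub, hab.eq]
  have hind : ∀ j : ℕ, x * a ^ (j + 1) = a ^ (j + 1) * x + (j + 1) • (a ^ j * d₁) := by
    intro j
    induction j with
    | zero => simp [hxa]
    | succ j ih =>
      rw [pow_succ a (j + 1), ← mul_assoc, ih, add_mul, smul_mul_assoc,
        show a ^ (j + 1) * x * a = a ^ (j + 1) * a * x + a ^ (j + 1) * d₁ by
          rw [mul_assoc, hxa, mul_add, mul_assoc],
        show a ^ j * d₁ * a = a ^ (j + 1) * d₁ by rw [mul_assoc, hda, ← mul_assoc, ← pow_succ],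
        succ_nsmul (a ^ (j + 1) * d₁) (j + 1)]
      abel
  obtain ⟨j, rfl⟩ := Nat.exists_eq_succ_of_ne_zero hm0
  have h := hind j
  rw [ha, mul_one, one_mul, left_eq_add, ← Nat.cast_smul_eq_nsmul F] at h
  have hne : ((j + 1 : ℕ) : F) ≠ 0 := fun e => hm ((CharP.cast_eq_zero_iff F p _).1 e)
  have h0 : a ^ j * d₁ = 0 := (smul_eq_zero.1 h).resolve_left hne
  have h0' : a * (a ^ j * d₁) = 0 := by rw [h0, mul_zero]
  rw [← mul_assoc, ← pow_succ', ha, one_mul] at h0'
  rw [hxa, h0', add_zero]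

open Subgroup in
/-- The fusion-free case of Burnside's transfer with a quadratically acting element. -/
theorem not_selfnorm {G : Type*} [Group G] [Finite G] {p : ℕ} [Fact p.Prime] {X : Subgroup G}
    (hX : IsPGroup p X) (hcomm : ∀ a ∈ X, ∀ b ∈ X, a * b = b * a) (hne : X ≠ ⊤)
    (hself : normalizer (X : Set G) ≤ X) {x : G} (hx : x ∈ X)
    (hquad : ∀ a : G, ¬ p ∣ orderOf a → Commute a (x * a * x⁻¹) → Commute a (x * (x * a * x⁻¹) * x⁻¹) →
      Commute (x * a * x⁻¹) (x * (x * a * x⁻¹) * x⁻¹) → x * a = a * x)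
    (hcent : ∀ a : G, x * a = a * x → a ∈ X) : False := by
  classical
  obtain ⟨P, hXP⟩ := hX.exists_le_sylow
  have hPX : (P : Subgroup G) = X := by
    refine le_antisymm (fun g hg => ?_) hXP
    by_contra hgX
    haveI := P.2.isNilpotent
    have hlt : X.subgroupOf (P : Subgroup G) < ⊤ := lt_top_iff_ne_top.2 fun e =>
      hgX (subgroupOf_eq_top.1 e hg)
    obtain ⟨n, hn, hnX⟩ := SetLike.exists_of_lt (Group.normalizerCondition_of_isNilpotent _ hlt)
    refine hnX (mem_subgroupOf.2 (hself (mem_normalizer_iff.2 fun h => ?_)))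
    have hn' := mem_normalizer_iff.1 hn
    constructor
    · intro hh
      exact (hn' ⟨h, hXP hh⟩).1 hh
    · intro hh
      have hP : h ∈ (P : Subgroup G) := by
        have h1 := hXP hh
        have := mul_mem (mul_mem (inv_mem n.2) h1) n.2
        simpa [mul_assoc] using this
      exact (hn' ⟨h, hP⟩).2 hh
  have hP : normalizer ((P : Subgroup G) : Set G) ≤ centralizer ((P : Subgroup G) : Set G) := by
    rw [hPX]
    exact fun n hn => mem_centralizer_iff.2 fun h hh => hcomm h hh n (hself hn)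
  set N := (MonoidHom.transferSylow P hP).ker
  have hc : Subgroup.IsComplement' N P := MonoidHom.ker_transferSylow_isComplement' P hP
  have hNnot : ¬ p ∣ Nat.card N := by
    have h1 := hc.card_mul
    have h2 := (P : Subgroup G).index_mul_card
    rw [← Nat.eq_of_mul_eq_mul_right Nat.card_pos (h2.trans h1.symm)]
    exact P.not_dvd_index
  have hN1 : Nat.card N ≠ 1 := by
    intro e
    have h1 := hc.card_mul
    rw [e, one_mul, hPX] at h1
    exact hne (Subgroup.eq_top_of_card_eq _ h1)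
  obtain ⟨ℓ, hℓ, hℓd⟩ := Nat.exists_prime_and_dvd hN1
  haveI : Fact ℓ.Prime := ⟨hℓ⟩
  have hAK : Subgroup.zpowers x ≤ normalizer (N : Set G) := by
    rw [normalizer_eq_top_iff.mpr (MonoidHom.normal_ker _)]; exact le_top
  obtain ⟨j, hj⟩ := IsPGroup.iff_card.1 (hX.to_le (Subgroup.zpowers_le.2 hx))
  have hcop : (Nat.card (Subgroup.zpowers x)).Coprime (Nat.card N) := by
    rw [hj]; exact Nat.Coprime.pow_left _ ((Fact.out : p.Prime).coprime_iff_not_dvd.2 hNnot)
  haveI := (hX.to_le (Subgroup.zpowers_le.2 hx)).isNilpotent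
  obtain ⟨R, hR⟩ := Coprime.exists_invariant_sylow (p := ℓ) hAK hcop (Or.inl inferInstance)
  haveI : Nontrivial (R : Subgroup N) := by
    rw [Subgroup.nontrivial_iff_ne_bot]
    exact R.ne_bot_of_dvd_card hℓd
  haveI := R.2.center_nontrivial
  obtain ⟨z, hz⟩ := exists_ne (1 : Subgroup.center (R : Subgroup N))
  set R₀ := (R : Subgroup N).map N.subtype
  have hxR : ∀ h, h ∈ R₀ → x * h * x⁻¹ ∈ R₀ := fun h hh =>
    (mem_normalizer_iff.1 (hR (mem_zpowers x)) h).1 hh
  have hxR' : ∀ h, h ∈ R₀ → x⁻¹ * h * x ∈ R₀ := fun h hh => by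
    have := (mem_normalizer_iff.1 (hR (inv_mem (mem_zpowers x))) h).1 hh
    simpa using this
  set a : G := (((z : (R : Subgroup N)) : N) : G)
  have haR : a ∈ R₀ := ⟨_, (z : (R : Subgroup N)).2, rfl⟩
  have haC : ∀ h ∈ R₀, Commute a h := by
    rintro _ ⟨h, hh, rfl⟩
    have := Subgroup.mem_center_iff.1 z.2 ⟨h, hh⟩
    exact (congrArg (fun t : (R : Subgroup N) => ((t : N) : G)) this).symm
  have ha1C : ∀ h ∈ R₀, Commute (x * a * x⁻¹) h := fun h hh => by
    have h' := (haC _ (hxR' h hh)).eq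
    show x * a * x⁻¹ * h = h * (x * a * x⁻¹)
    calc x * a * x⁻¹ * h = x * (a * (x⁻¹ * h * x)) * x⁻¹ := by group
      _ = x * ((x⁻¹ * h * x) * a) * x⁻¹ := by rw [h']
      _ = h * (x * a * x⁻¹) := by group
  have hord : ¬ p ∣ orderOf a := fun hd => hNnot (hd.trans (by
    rw [show a = ((((z : (R : Subgroup N)) : N)) : G) from rfl, Subgroup.orderOf_coe]
    exact orderOf_dvd_natCard _))
  have hcomm' := hquad a hord (haC _ (hxR a haR)) (haC _ (hxR _ (hxR a haR))) (ha1C _ (hxR _ (hxR a haR)))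
  have haX := hcent a hcomm'
  have haN : a ∈ N := ((z : (R : Subgroup N)) : N).2
  have ha1 : a = 1 := by
    have := hc.disjoint
    rw [hPX, Subgroup.disjoint_def] at this
    exact this haN haX
  exact hz (Subtype.ext (Subtype.ext (Subtype.ext ha1)))

end Cfsg.Agent.Lib.TensorMixed
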