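import Cfsg.Agent.Lib.TensorMixed.Escape
import Cfsg.Agent.Lib.TensorMixed.Selfnorm

/-!
If all central elements are scalar and `dim A ≥ 3`, everything is Kronecker: a pair of transvection groups
of least pairing rank generates a group with a self-normalising Sylow subgroup.
-/

set_option autoImplicit false
set_option linter.unusedSectionVars false

namespace Cfsg.Agent.Lib.TensorMixed

open Matrix Cfsg.Agent.Lib Cfsg.Agent.Lib.TensorMax Cfsg.Agent.Lib.TensorForm

variable {F : Type*} [Field F] [Finite F] {r s : ℕ}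
  {fU : (Fin r → F) → (Fin r → F) → F} {fA : (Fin s → F) → (Fin s → F) → F}
  {M : Subgroup (GL (Fin r × Fin s) F)}

/-- The pointwise stabiliser of a set. -/
def fixer (Ω : Set (Matrix (Fin r) (Fin s) F)) : Subgroup (GL (Fin r × Fin s) F) where
  carrier := {g | ∀ X ∈ Ω, op g X = X}
  one_mem' := fun X _ => op_one X
  mul_mem' := fun {g h} hg hh X hX => by rw [op_mul, hh X hX, hg X hX]
  inv_mem' := fun {g} hg X hX => by conv_lhs => rw [← hg X hX, op_inv_op]

theorem op_mul_end (g h : GL (Fin r × Fin s) F) :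
    (op g * op h : Module.End F (Matrix (Fin r) (Fin s) F)) = op (g * h) :=
  LinearMap.ext fun X => (op_mul g h X).symm

/-- The action as a monoid hom. -/
def opHom : GL (Fin r × Fin s) F →* Module.End F (Matrix (Fin r) (Fin s) F) where
  toFun := op
  map_one' := LinearMap.ext op_one
  map_mul' g h := LinearMap.ext fun X => op_mul g h X

namespace MSetup

variable (S : MSetup fU fA M)
include S

theorem kron_of_centScalar_three (T : CentScalar M fA) (hs : 3 ≤ s) :
    M ≤ Cfsg.Geo.kroneckerSubgroup r s F := by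
  classical
  have := Fintype.ofFinite F
  by_contra hle
  obtain ⟨g₀, hg₀, hg₀K⟩ := SetLike.not_le_iff_exists.1 hle
  have hex : ∃ k, ∃ g ∈ M, g ∉ Cfsg.Geo.kroneckerSubgroup r s F ∧ ∃ c, c ≠ 0 ∧
      Module.finrank F (LinearMap.range (pim fA c g)) = k :=
    ⟨_, g₀, hg₀, hg₀K, Pi.single ⟨0, by omega⟩ 1, by simp, rfl⟩
  obtain ⟨g, hg, hgK, c, hc, hk⟩ := Nat.find_spec hex
  obtain ⟨π, hπ⟩ : ∃ π, π = pim fA c g := ⟨_, rfl⟩
  obtain ⟨πa, hπa⟩ := S.exists_adj π
  obtain ⟨y, hy, hyK, hyc, hyp⟩ := S.exists_escape T hc hg hgK (πa := πa) (fun u v => by rw [← hπ]; exact hπa u v)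
  rw [← hπ] at hyp
  have hrange : LinearMap.range (π.comp πa) = LinearMap.range π := by
    refine Submodule.eq_of_le_of_finrank_le (LinearMap.range_comp_le_range _ _) ?_
    rw [hπ, hk, ← hπ, ← LinearMap.range_neg, ← hyp]
    exact Nat.find_min' hex ⟨y, hy, hyK, c, hc, rfl⟩
  have hker : ∀ u, π (πa u) = 0 → πa u = 0 := fun u hu => by
    refine S.extU fun x => ?_
    obtain ⟨u', hu'⟩ : π x ∈ LinearMap.range (π.comp πa) := hrange ▸ ⟨x, rfl⟩
    rw [S.sym.zero_left, S.symU x (πa u), hπa, ← hu', LinearMap.comp_apply, ← hπa, S.symU (πa u) (πa u'), hπa,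
      hu, S.sym.zero_left]
  obtain ⟨φc, hφc⟩ := exists_dot_one hc
  obtain ⟨e₀, he₀⟩ := S.alt.form.exists_partner hc
  obtain ⟨u₀, hu₀⟩ : ∃ u₀ : Fin r → F, u₀ ≠ 0 :=
    ⟨Pi.single ⟨0, by have := S.three_le; omega⟩ 1, by simp⟩
  choose tl htlM htlK htlX using fun l => S.exists_transA c l
  have htl_add : ∀ a b, tl a * tl b = tl (a + b) := fun a b => ext_op fun X => by
    rw [op_mul, htlX b, map_add, map_smul, htlX a, htlX a (vecMulVec _ c), htlX (a + b), S.kap_self, pure_zero_left,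
      smul_zero, add_zero, add_smul, add_assoc]
  have htl_zero : tl 0 = 1 := ext_op fun X => by rw [htlX, op_one, zero_smul, add_zero]
  let Xs : Subgroup (GL (Fin r × Fin s) F) :=
    { carrier := Set.range tl
      one_mem' := ⟨0, htl_zero⟩
      mul_mem' := fun {_ _} ha hb => by
        obtain ⟨a, rfl⟩ := ha
        obtain ⟨b, rfl⟩ := hb
        exact ⟨a + b, (htl_add a b).symm⟩
      inv_mem' := fun {_} ha => by
        obtain ⟨a, rfl⟩ := ha
        exact ⟨-a, eq_inv_of_mul_eq_one_right (by rw [htl_add, add_neg_cancel, htl_zero])⟩ }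
  have hconjX : ∀ (n : GL (Fin r × Fin s) F) l X, op (n * tl l * n⁻¹) X =
      X + l • op n (vecMulVec (kap fA c (op n⁻¹ X)) c) := fun n l X => by
    rw [op_mul, op_mul, htlX, map_add, map_smul, op_op_inv]
  have hstab : ∀ n ∈ M, n * tl 1 * n⁻¹ ∈ Xs → n ∈ Cfsg.Geo.kroneckerSubgroup r s F := by
    rintro n hn ⟨l, hl⟩
    refine S.kron_of_map T hc hc hn fun u => ⟨l • kap fA c (op n (vecMulVec u e₀)), ?_⟩
    have h := hconjX n 1 (op n (vecMulVec u e₀))
    rw [← hl, htlX, op_inv_op, S.kap_pure, he₀, one_smul, one_smul, add_right_inj] at h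
    rw [pl_apply, pure_smul_left]
    exact h
  set H := Xs ⊔ Xs.map (MulAut.conj y).toMonoidHom with hH
  have hXH : Xs ≤ H := le_sup_left
  let Ω : Set (Matrix (Fin r) (Fin s) F) := {X | kap fA c X = 0 ∧ kap fA c (op y⁻¹ X) = 0}
  have hHfix : H ≤ fixer Ω := by
    refine sup_le ?_ ?_
    · rintro _ ⟨l, rfl⟩ X hX
      rw [htlX, hX.1, pure_zero_left, smul_zero, add_zero]
    · rintro _ ⟨_, ⟨l, rfl⟩, rfl⟩ X hX
      show op (y * tl l * y⁻¹) X = X
      rw [hconjX, hX.2, pure_zero_left, map_zero, smul_zero, add_zero]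
  have hHM : H ≤ M := by
    refine sup_le ?_ ?_
    · rintro _ ⟨l, rfl⟩; exact htlM l
    · rintro _ ⟨_, ⟨l, rfl⟩, rfl⟩
      exact M.mul_mem (M.mul_mem hy (htlM l)) (M.inv_mem hy)
  have hsur : ∀ X, kap fA c X = 0 → ∃ v, X + vecMulVec v c ∈ Ω := by
    intro X hX
    let ψ : (Fin r → F) →ₗ[F] F := (S.Bl X).comp ((op y).comp (pl r c))
    have hψ : ψ ∈ (LinearMap.ker (π.comp πa)).dualAnnihilator := by
      rw [Submodule.mem_dualAnnihilator]
      intro u hu
      show tB fU fA X (op y (vecMulVec u c)) = 0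
      rw [hyc, hker u (LinearMap.mem_ker.1 hu), pure_zero_left, map_zero, sub_zero, S.B_pure, hX, S.sym.zero_left]
    rw [← LinearMap.range_dualMap_eq_dualAnnihilator_ker] at hψ
    obtain ⟨χ, hχ⟩ := hψ
    obtain ⟨φ, hφ⟩ := exists_dot_of_dual χ
    obtain ⟨v, rfl⟩ := S.sym.exists_cov φ
    refine ⟨-v, by rw [map_add, hX, S.kap_self, add_zero], S.extU fun u => ?_⟩
    rw [S.sym.zero_left, ← S.B_pure, ← S.iso y hy, op_op_inv, S.B_add_left, S.B_pure_left,
      show kap fA c (op y (vecMulVec u c)) = pim fA c y u from rfl, hyp,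
      show tB fU fA X (op y (vecMulVec u c)) = ψ u from rfl, ← hχ]
    show χ (π (πa u)) + -fU ((-π.comp πa) u) (-v) = 0
    rw [← hφ, S.sym.dot_cov, LinearMap.neg_apply, S.sym.neg_left, ← neg_one_smul F v, S.smulU]
    simp
  -- the normaliser of `Xs`
  let Sm : Submodule F (Matrix (Fin r) (Fin s) F) := LinearMap.range (pl r c) ⊔ wsub y c
  have hSm : ∀ Z, (∀ X ∈ Sm, tB fU fA X Z = 0) → Z ∈ Ω := fun Z hZ => by
    refine ⟨S.extU fun u => ?_, S.extU fun u => ?_⟩
    · rw [S.sym.zero_left, ← S.B_pure, S.B_swap (vecMulVec u c),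
        hZ (vecMulVec u c) (Submodule.mem_sup_left ⟨u, rfl⟩), neg_zero]
    · rw [S.sym.zero_left, ← S.B_pure, ← S.iso y hy, op_op_inv, S.B_swap (op y (vecMulVec u c)),
        hZ (op y (vecMulVec u c)) (Submodule.mem_sup_right ⟨u, rfl⟩), neg_zero]
  have hWP : ∀ w ∈ wsub y c, kap fA c w = 0 → w ∈ LinearMap.range (pl r c) := by
    rintro _ ⟨u, rfl⟩ hw
    change pim fA c y u = 0 at hw
    rw [hyp, LinearMap.neg_apply, neg_eq_zero, LinearMap.comp_apply] at hw
    refine ⟨u, ?_⟩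
    rw [LinearMap.comp_apply, pl_apply, hyc, hker u hw, pure_zero_left, map_zero, sub_zero]
  have hnorm : ∀ n ∈ H, n * tl 1 * n⁻¹ ∈ Xs → n ∈ Xs := by
    intro n hn hnX
    have hnM := hHM hn
    obtain ⟨l, hl⟩ := hnX
    obtain ⟨A, C, hAC⟩ := hstab n hnM ⟨l, hl⟩
    have hpure : ∀ u e, op n (vecMulVec u e) =
        vecMulVec ((A : Matrix (Fin r) (Fin r) F) *ᵥ u) ((C : Matrix (Fin s) (Fin s) F) *ᵥ e) := fun u e => by
      rw [op_kron hAC, mul_vecMulVec, vecMulVec_mul, vecMul_transpose]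
    have hnP : ∀ v, ∃ v', op n (vecMulVec v c) = vecMulVec v' c := fun v => by
      have h := hconjX n 1 (op n (vecMulVec v e₀))
      rw [← hl, htlX, op_inv_op, S.kap_pure, he₀, one_smul, one_smul, add_right_inj] at h
      exact ⟨_, h.symm.trans (pure_smul_left l _ c).symm⟩
    obtain ⟨e, he, hec⟩ := S.alt.exists_orth_out ![c] (F ∙ c) (by rw [finrank_span_singleton hc]; omega)
    obtain ⟨φ, hφ0, hφ1⟩ := exists_sep hec
    have hAs : ∀ u, (((C : Matrix (Fin s) (Fin s) F) *ᵥ e) ⬝ᵥ φ) • ((A : Matrix (Fin r) (Fin r) F) *ᵥ u) = u := by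
      intro u
      obtain ⟨v, hv⟩ := hsur (vecMulVec u e) (by rw [S.kap_pure, show fA e c = 0 from he 0, zero_smul])
      have h := hHfix hn _ hv
      obtain ⟨v', hv'⟩ := hnP v
      rw [map_add, hv', hpure] at h
      have h' := congrArg (fun Z => Z *ᵥ φ) h
      simpa [add_mulVec, pure_mulVec, hφ0 c (Submodule.mem_span_singleton_self c), hφ1] using h'
    set a := ((C : Matrix (Fin s) (Fin s) F) *ᵥ e) ⬝ᵥ φ
    have ha : a ≠ 0 := fun e0 => hu₀ (by have := hAs u₀; rw [e0, zero_smul] at this; exact this.symm)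
    let G : Matrix (Fin s) (Fin s) F := a⁻¹ • (C : Matrix (Fin s) (Fin s) F)ᵀ
    have hnG : ∀ u e, op n (vecMulVec u e) = vecMulVec u (e ᵥ* G) := fun u e => by
      rw [hpure, show e ᵥ* G = a⁻¹ • ((C : Matrix (Fin s) (Fin s) F) *ᵥ e) by
        rw [vecMul_smul, vecMul_transpose], pure_smul_right, ← pure_smul_left]
      congr 1
      rw [eq_inv_smul_iff₀ ha, hAs]
    have hJ : ∀ u e, vecMulVec u (e ᵥ* G - e) ∈ Sm := fun u e => by
      refine S.mem_of_perp Sm fun Z hZ => ?_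
      rw [pure_sub_right, ← hnG]
      have h1 := S.iso n hnM Z (vecMulVec u e)
      rw [hHfix hn Z (hSm Z hZ)] at h1
      simp only [← S.Bl_apply, map_sub]
      rw [S.Bl_apply, S.Bl_apply, h1, sub_self]
    have hJc : ∀ e, fA (e ᵥ* G - e) c = 0 → e ᵥ* G - e ∈ F ∙ c := fun e he => by
      obtain ⟨p, hp, w, hw, hpw⟩ := Submodule.mem_sup.1 (hJ u₀ e)
      have hw0 : kap fA c w = 0 := by
        obtain ⟨x, rfl⟩ := hp
        have := congrArg (kap fA c) hpw
        rwa [map_add, pl_apply, S.kap_self, zero_add, S.kap_pure, he, zero_smul] at this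
      obtain ⟨x, hx⟩ : vecMulVec u₀ (e ᵥ* G - e) ∈ LinearMap.range (pl r c) :=
        hpw ▸ Submodule.add_mem _ hp (hWP w hw hw0)
      obtain ⟨φ₀, hφ₀⟩ := exists_dot_one hu₀
      have h := congrArg (fun Z => φ₀ ᵥ* Z) hx
      simp only [pl_apply, vecMul_pure, dotProduct_comm φ₀, hφ₀, one_smul] at h
      exact Submodule.mem_span_singleton.2 ⟨_, h⟩
    by_cases hd : ∃ e, fA (e ᵥ* G - e) c ≠ 0
    · exfalso
      obtain ⟨e, hdc⟩ := hd
      set d := e ᵥ* G - e with hddef
      have hd0 : d ≠ 0 := fun e0 => hdc (by rw [e0, S.alt.form.zero_left])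
      let R₂ : Submodule F (Matrix (Fin r) (Fin s) F) := LinearMap.range (pl r c) ⊔ LinearMap.range (pl r d)
      have hR₂le : R₂ ≤ Sm := sup_le le_sup_left (by rintro _ ⟨u, rfl⟩; exact hJ u e)
      have hR₂ : R₂ = Sm := by
        refine Submodule.eq_of_le_of_finrank_le hR₂le ?_
        have h1 := Submodule.finrank_add_le_finrank_add_finrank (LinearMap.range (pl r c)) (wsub y c)
        have hdisj : LinearMap.range (pl r c) ⊓ LinearMap.range (pl r d) = ⊥ := by
          rw [eq_bot_iff]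
          rintro _ ⟨⟨x, rfl⟩, z, hz⟩
          have h := congrArg (kap fA c) hz
          rw [pl_apply, pl_apply, S.kap_self, S.kap_pure] at h
          rw [Submodule.mem_bot, ← hz, (smul_eq_zero.1 h).resolve_left hdc, map_zero]
        have h2 := Submodule.finrank_sup_add_finrank_inf_eq (LinearMap.range (pl r c)) (LinearMap.range (pl r d))
        rw [hdisj, finrank_bot, add_zero, finrank_range_pl hc, finrank_range_pl hd0] at h2
        rw [finrank_range_pl hc, finrank_wsub y hc] at h1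
        show Module.finrank F Sm ≤ Module.finrank F R₂
        rw [h2]; exact h1
      obtain ⟨d', hd', hd'0⟩ := S.alt.exists_orth_out ![c, d] ⊥ (by rw [finrank_bot]; omega)
      have hd'ne : d' ≠ 0 := fun e0 => hd'0 (by rw [e0]; exact Submodule.zero_mem _)
      have hkill : ∀ u, kap fA d' (op y (vecMulVec u c)) = 0 := fun u => by
        obtain ⟨p, ⟨x, rfl⟩, q, ⟨x', rfl⟩, hpq⟩ := Submodule.mem_sup.1
          (hR₂ ▸ Submodule.mem_sup_right ⟨u, rfl⟩ : op y (vecMulVec u c) ∈ R₂)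
        rw [← hpq, map_add, pl_apply, pl_apply, S.kap_pure, S.kap_pure,
          S.alt.form.eq_zero_symm (show fA d' c = 0 from hd' 0),
          S.alt.form.eq_zero_symm (show fA d' d = 0 from hd' 1), zero_smul, zero_smul, add_zero]
      have hfix : ∀ v, op (y * tl 1 * y⁻¹) (vecMulVec v d') = vecMulVec v d' := fun v => by
        have h0 : kap fA c (op y⁻¹ (vecMulVec v d')) = 0 := S.extU fun u => by
          rw [S.sym.zero_left, ← S.B_pure, ← S.iso y hy, op_op_inv, S.B_pure_left, hkill, S.sym.zero_left,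
            neg_zero]
        rw [hconjX, h0, pure_zero_left, map_zero, smul_zero, add_zero]
      exact hyK (S.kron_of_conj T hc hy (fun X => by rw [htlX, one_smul])
        (S.kron_of_fix T hd'ne (M.mul_mem (M.mul_mem hy (htlM 1)) (M.inv_mem hy)) hfix))
    push Not at hd
    have hφe : ∀ e, e ᵥ* G = e + ((e ᵥ* G - e) ⬝ᵥ φc) • c := fun e => by
      obtain ⟨t, ht⟩ := Submodule.mem_span_singleton.1 (hJc e (hd e))
      have htt : (e ᵥ* G - e) ⬝ᵥ φc = t := by rw [← ht, smul_dotProduct, hφc, smul_eq_mul, mul_one]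
      rw [htt, ht, add_sub_cancel]
    refine ⟨(e₀ ᵥ* G - e₀) ⬝ᵥ φc, ext_op fun X => ?_⟩
    refine lin_ext (L := op (tl _)) (L' := op n) (fun u x => ?_) X
    obtain ⟨w, hw⟩ := S.sym.nondeg u₀ hu₀
    have hiso := S.iso n hnM (vecMulVec u₀ x) (vecMulVec w e₀)
    rw [hnG, hnG, S.B_pure_pure, S.B_pure_pure, hφe x, hφe e₀, S.alt.form.add_left, S.alt.form.add_right,
      S.alt.form.add_right, S.alt.form.smul_left, S.alt.form.smul_left, S.smulA, S.smulA, S.alt.self,
      S.alt.swap e₀ c, he₀] at hiso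
    have hx := mul_right_cancel₀ hw hiso
    rw [htlX, hnG, hφe x, S.kap_pure, pure_smul_left, smul_smul, pure_add_right, pure_smul_right,
      show (x ᵥ* G - x) ⬝ᵥ φc = (e₀ ᵥ* G - e₀) ⬝ᵥ φc * fA x c by linear_combination -hx]
  -- the group theory
  obtain ⟨p, hp⟩ := CharP.exists F
  haveI : Fact p.Prime := ⟨CharP.char_is_prime F p⟩
  let X' : Subgroup H := Xs.subgroupOf H
  have hXp : IsPGroup p X' := by
    have hpow : ∀ (j : ℕ) l, tl l ^ j = tl ((j : F) * l) := fun j l => by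
      induction j with
      | zero => rw [pow_zero, Nat.cast_zero, zero_mul, htl_zero]
      | succ j ih => rw [pow_succ, ih, htl_add, Nat.cast_succ, add_mul, one_mul]
    rintro ⟨⟨n, hn⟩, l, hl⟩
    refine ⟨1, Subtype.ext (Subtype.ext ?_)⟩
    show n ^ p ^ 1 = 1
    rw [pow_one, ← show tl l = n from hl, hpow, CharP.cast_eq_zero, zero_mul, htl_zero]
  have hmem : ∀ {n : H}, n ∈ X' ↔ (n : GL (Fin r × Fin s) F) ∈ Xs := Subgroup.mem_subgroupOf
  let x₁ : H := ⟨tl 1, hXH ⟨1, rfl⟩⟩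
  refine not_selfnorm (X := X') hXp ?_ ?_ ?_ (x := x₁) (hmem.2 ⟨1, rfl⟩) ?_ ?_
  · intro a ha b hb
    obtain ⟨i, hi⟩ := hmem.1 ha
    obtain ⟨j, hj⟩ := hmem.1 hb
    refine Subtype.ext ?_
    show (a : GL (Fin r × Fin s) F) * b = b * a
    rw [← hi, ← hj, htl_add, htl_add, add_comm]
  · intro etop
    have h : (⟨y * tl 1 * y⁻¹, le_sup_right (a := Xs) ⟨tl 1, ⟨1, rfl⟩, rfl⟩⟩ : H) ∈ X' :=
      etop ▸ Subgroup.mem_top _
    exact hyK (hstab y hy (hmem.1 h))
  · intro n hn
    exact hmem.2 (hnorm n n.2 (hmem.1 ((Subgroup.mem_normalizer_iff.1 hn x₁).1 (hmem.2 ⟨1, rfl⟩))))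
  · intro a hord hab hac hbc
    haveI : Nontrivial (Module.End F (Matrix (Fin r) (Fin s) F)) := by
      refine ⟨⟨0, 1, fun e => hu₀ (pl_injective (a := r) hc ?_)⟩⟩
      have := LinearMap.congr_fun e (pl r c u₀)
      rw [map_zero]
      exact this.symm
    let Ψ : H →* Module.End F (Matrix (Fin r) (Fin s) F) := opHom.comp H.subtype
    have hinj : Function.Injective Ψ := fun u v e => Subtype.ext (ext_op fun X => LinearMap.congr_fun e X)
    refine hinj ?_
    rw [map_mul, map_mul]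
    have hconj : ∀ n : H, Ψ x₁ * Ψ n = Ψ (x₁ * n * x₁⁻¹) * Ψ x₁ := fun n => by
      rw [← map_mul, ← map_mul, inv_mul_cancel_right]
    have hpow : ∀ n : H, Ψ (x₁ * n * x₁⁻¹) ^ orderOf n = 1 := fun n => by
      rw [← map_pow, show (x₁ * n * x₁⁻¹) ^ orderOf n = 1 by simp [← MulAut.conj_apply, ← map_pow, pow_orderOf_eq_one],
        map_one]
    have hop1 : ∀ X, Ψ x₁ X = X + vecMulVec (kap fA c X) c := fun X => by
      show op (tl 1) X = _
      rw [htlX, one_smul]
    refine commute_of_quadratic (p := p) S.two (m := orderOf a) ?_ (hconj a) (hconj (x₁ * a * x₁⁻¹))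
      (hab.map Ψ) (hac.map Ψ) (hbc.map Ψ) hord (by rw [← map_pow, pow_orderOf_eq_one, map_one]) (hpow a) ?_
    · refine LinearMap.ext fun X => ?_
      simp only [LinearMap.add_apply, LinearMap.sub_apply, LinearMap.smul_apply, Module.End.mul_apply,
        Module.End.one_apply, LinearMap.zero_apply, hop1, map_add, S.kap_self, add_zero]
      module
    · rw [← map_pow]
      simp [← MulAut.conj_apply, ← map_pow, pow_orderOf_eq_one]
  · intro a ha
    refine hmem.2 (hnorm a a.2 ⟨1, ?_⟩)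
    have h := congrArg (fun t : H => (t : GL (Fin r × Fin s) F)) ha
    simp only [Subgroup.coe_mul] at h
    rw [eq_mul_inv_iff_mul_eq]
    exact h

end MSetup

end Cfsg.Agent.Lib.TensorMixed
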