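import Cfsg.Agent.Lib.TensorMixed.Central
import Cfsg.Agent.Lib.TensorMixed.Pair

/-!
A group of isometries of `U ⊗ A` containing the Kronecker isometries is Kronecker or contains all
transvections.
-/

set_option autoImplicit false
set_option linter.unusedSectionVars false

namespace Cfsg.Agent.Lib.TensorMixed

open Matrix Cfsg.Agent.Lib Cfsg.Agent.Lib.TensorMax Cfsg.Agent.Lib.TensorForm

variable {F : Type*} [Field F] {r s : ℕ}
  {fU : (Fin r → F) → (Fin r → F) → F} {fA : (Fin s → F) → (Fin s → F) → F}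
  {M : Subgroup (GL (Fin r × Fin s) F)}

namespace MSetup

variable (S : MSetup fU fA M)
include S

theorem B_self (X : Matrix (Fin r) (Fin s) F) : tB fU fA X X = 0 :=
  (mul_eq_zero.1 (show 2 * tB fU fA X X = 0 by linear_combination S.B_swap X X)).resolve_left S.two

theorem root_map {X : Matrix (Fin r) (Fin s) F} (h : Root fU fA M X) {g : GL (Fin r × Fin s) F} (hg : g ∈ M) :
    Root fU fA M (op g X) := fun l => by
  obtain ⟨t, ht, htX⟩ := h l
  refine ⟨g * t * g⁻¹, M.mul_mem (M.mul_mem hg ht) (M.inv_mem hg), fun Y => ?_⟩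
  rw [op_mul, op_mul, htX, map_add, map_smul, op_op_inv, ← S.iso g hg (op g⁻¹ Y) X, op_op_inv]

theorem root_smul {X : Matrix (Fin r) (Fin s) F} (h : Root fU fA M X) (a : F) :
    Root fU fA M (a • X) := fun l => by
  obtain ⟨t, ht, htX⟩ := h (l * a * a)
  refine ⟨t, ht, fun Y => ?_⟩
  rw [htX, S.B_smul_right, smul_smul]
  congr 2
  ring

theorem root_add {X Y : Matrix (Fin r) (Fin s) F} (hX : Root fU fA M X) (hY : Root fU fA M Y)
    (hne : tB fU fA X Y ≠ 0) : Root fU fA M (X + Y) := by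
  obtain ⟨t, ht, htX⟩ := hY (tB fU fA X Y)⁻¹
  have h := S.root_map hX ht
  rwa [htX, inv_mul_cancel₀ hne, one_smul] at h

variable [Finite F]

/-- A pure singular root gives all roots. -/
theorem root_all {z : Fin r → F} {c : Fin s → F} (hz : z ≠ 0) (hzz : fU z z = 0) (hc : c ≠ 0)
    (h : Root fU fA M (vecMulVec z c)) (X : Matrix (Fin r) (Fin s) F) : Root fU fA M X := by
  classical
  have hzd : ∀ d, d ≠ 0 → Root fU fA M (vecMulVec z d) := fun d hd => by
    obtain ⟨β, hβ, hβc⟩ := S.exists_sp_move hc hd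
    obtain ⟨k, hk, -, hkp⟩ := S.exists_sp hβ
    have := S.root_map h hk
    rwa [hkp, hβc] at this
  have hmove : ∀ x y : Fin r → F, fU x x = 0 → fU y y = 0 → fU x y ≠ 0 →
      (∀ d, d ≠ 0 → Root fU fA M (vecMulVec x d)) → ∀ d, d ≠ 0 → Root fU fA M (vecMulVec y d) := by
    intro x y hx hy hxy hroot d hd
    obtain ⟨hne, href⟩ := S.refl_move hx hy hxy
    obtain ⟨k, hk, -, hkp, -⟩ := S.exists_ortho (α := refl S.sym (x - y)) (S.refl_iso hne)
    have := S.root_map (hroot d hd) hk
    rwa [hkp, href] at this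
  obtain ⟨v₀, -, hv₀⟩ := S.exists_dual_out (T := ⊥) (p := z) (by simpa using hz)
  set z' := v₀ - (fU v₀ v₀ / 2) • z with hz'
  have hz'z : fU z' z = 1 := by rw [hz', S.sym.sub_left, S.sym.smul_left, hzz, mul_zero, sub_zero, hv₀]
  have hzz' : fU z z' = 1 := by rw [S.symU z' z]; exact hz'z
  have hz'z' : fU z' z' = 0 := by
    rw [hz', S.sym.sub_left, S.sym.sub_right, S.sym.sub_right, S.sym.smul_left, S.sym.smul_left, S.smulU, S.smulU,
      hzz, S.symU v₀ z, hv₀]
    linear_combination -div_mul_cancel₀ (fU v₀ v₀) S.two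
  have hz'd := hmove z z' hzz hz'z' (by rw [hzz']; exact one_ne_zero) hzd
  let τ : (Fin s → F) × (Fin s → F) →ₗ[F] Matrix (Fin r) (Fin s) F :=
    (plL s z).coprod (plL s z')
  have hτ : ∀ a a', τ (a, a') = vecMulVec z a + vecMulVec z' a' := fun a a' => rfl
  have hττ : ∀ p q : (Fin s → F) × (Fin s → F), tB fU fA (τ p) (τ q) = fA p.1 q.2 + fA p.2 q.1 := by
    rintro ⟨a, a'⟩ ⟨b, b'⟩
    rw [hτ, hτ, S.B_add_left, S.B_add_right, S.B_add_right, S.B_pure_pure, S.B_pure_pure, S.B_pure_pure,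
      S.B_pure_pure, hzz, hz'z', hzz', hz'z]
    ring
  have hT : ∀ p : (Fin s → F) × (Fin s → F), p ≠ 0 → Root fU fA M (τ p) := by
    rintro ⟨a, a'⟩ hp
    rw [hτ]
    by_cases ha : a = 0
    · rw [ha, pure_zero_right, zero_add]
      exact hz'd a' fun e => hp (by rw [ha, e]; rfl)
    by_cases ha' : a' = 0
    · rw [ha', pure_zero_right, add_zero]; exact hzd a ha
    by_cases hne : fA a a' = 0
    swap
    · exact S.root_add (hzd a ha) (hz'd a' ha') (by rw [S.B_pure_pure, hzz', mul_one]; exact hne)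
    obtain ⟨b, hb⟩ := S.alt.form.exists_partner ha'
    have hb0 : b ≠ 0 := fun e => by rw [e, S.alt.form.zero_left] at hb; exact zero_ne_one hb
    have hab : a - b ≠ 0 := fun e => by
      rw [sub_eq_zero.1 e, hb] at hne; exact one_ne_zero hne
    have h1 := S.root_add (hzd (a - b) hab) (hz'd a' ha')
      (by rw [S.B_pure_pure, hzz', mul_one, S.alt.form.sub_left, hne, hb, zero_sub]; exact neg_ne_zero.2 one_ne_zero)
    have h2 := S.root_add h1 (hzd b hb0) (by
      rw [S.B_add_left, S.B_pure_pure, S.B_pure_pure, hzz, hz'z, mul_zero, zero_add, mul_one, S.alt.swap b a', hb]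
      exact neg_ne_zero.2 one_ne_zero)
    rw [pure_sub_right] at h2
    convert h2 using 1
    abel
  have hdual : ∀ p : (Fin s → F) × (Fin s → F), p ≠ 0 → ∃ q, tB fU fA (τ q) (τ p) ≠ 0 := by
    rintro ⟨a, a'⟩ hp
    by_cases ha' : a' = 0
    · obtain ⟨x, hx⟩ := S.alt.form.exists_partner (c := a) (fun e => hp (by rw [e, ha']; rfl))
      exact ⟨(0, x), by rw [hττ, S.alt.form.zero_left, zero_add, hx]; exact one_ne_zero⟩
    · obtain ⟨x, hx⟩ := S.alt.form.exists_partner ha'
      exact ⟨(x, 0), by rw [hττ, S.alt.form.zero_left, add_zero, hx]; exact one_ne_zero⟩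
  let G : Submodule F (Matrix (Fin r) (Fin s) F) :=
    { carrier := {b | (∀ p, tB fU fA (τ p) b = 0) ∧ ∀ p, p ≠ 0 → Root fU fA M (τ p + b)}
      zero_mem' := ⟨fun p => by rw [S.B_swap 0, S.B_zero_left, neg_zero], fun p hp => by rw [add_zero]; exact hT p hp⟩
      add_mem' := fun {b b'} hb hb' => ⟨fun p => by rw [S.B_add_right, hb.1, hb'.1, add_zero], fun p hp => by
        obtain ⟨q, hq⟩ := hdual p hp
        obtain ⟨t, ht0, ht⟩ : ∃ t : F, t ≠ 0 ∧ t + tB fU fA b b' ≠ 0 := by
          by_cases h1 : (1 : F) + tB fU fA b b' = 0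
          · exact ⟨-1, neg_ne_zero.2 one_ne_zero, fun h2 => S.two (by linear_combination h1 - h2)⟩
          · exact ⟨1, one_ne_zero, h1⟩
        set p₁ := (t / tB fU fA (τ q) (τ p)) • q with hp₁
        have hB : tB fU fA (τ p₁) (τ p) = t := by rw [hp₁, map_smul, S.B_smul_left, div_mul_cancel₀ _ hq]
        have h10 : p₁ ≠ 0 := fun e => by rw [e, map_zero, S.B_zero_left] at hB; exact ht0 hB.symm
        have h20 : p - p₁ ≠ 0 := fun e => by
          rw [← sub_eq_zero.1 e, S.B_self] at hB; exact ht0 hB.symm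
        have hBd : tB fU fA (τ p₁) (τ (p - p₁)) = t := by
          rw [map_sub, ← S.Bl_apply, map_sub, S.Bl_apply, S.Bl_apply, hB, S.B_self, sub_zero]
        have h := S.root_add (hb.2 p₁ h10) (hb'.2 (p - p₁) h20) (by
          rw [S.B_add_left, S.B_add_right, S.B_add_right, hBd, hb'.1, S.B_swap (τ (p - p₁)) b, hb.1, neg_zero,
            add_zero, zero_add]
          exact ht)
        convert h using 1
        rw [map_sub]
        abel⟩
      smul_mem' := fun l {b} hb => ⟨fun p => by rw [S.B_smul_right, hb.1, mul_zero], fun p hp => by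
        rcases eq_or_ne l 0 with rfl | hl
        · rw [zero_smul, add_zero]; exact hT p hp
        have h := S.root_smul (hb.2 (l⁻¹ • p) (smul_ne_zero (inv_ne_zero hl) hp)) l
        rwa [smul_add, map_smul, smul_smul, mul_inv_cancel₀ hl, one_smul] at h⟩ }
  have hgen : ∀ (w : Fin r → F) (d : Fin s → F), fU w z = 0 → fU w z' = 0 → vecMulVec w d ∈ G := by
    intro w d hwz hwz'
    have hperp : ∀ p, tB fU fA (τ p) (vecMulVec w d) = 0 := by
      rintro ⟨a, a'⟩
      rw [hτ, S.B_add_left, S.B_pure_pure, S.B_pure_pure, S.symU w z, S.symU w z', hwz, hwz', mul_zero, mul_zero,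
        add_zero]
    rcases eq_or_ne d 0 with rfl | hd
    · rw [pure_zero_right]; exact G.zero_mem
    refine ⟨hperp, fun p hp => ?_⟩
    set hw2 := fU w w / 2 with hh
    set v := z' - hw2 • z + w with hv
    have hzw : fU z w = 0 := by rw [S.symU w z]; exact hwz
    have hz'w : fU z' w = 0 := by rw [S.symU w z']; exact hwz'
    have hzv : fU z v = 1 := by
      rw [hv, S.sym.add_right, S.sym.sub_right, S.smulU, hzz', hzz, hzw]; ring
    have hvv : fU v v = 0 := by
      simp only [hv, S.sym.add_left, S.sym.add_right, S.sym.sub_left, S.sym.sub_right, S.sym.smul_left, S.smulU,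
        hzz, hzz', hz'z, hz'z', hzw, hz'w, hwz, hwz']
      linear_combination -div_mul_cancel₀ (fU w w) S.two
    have hroot := hmove z v hzz hvv (by rw [hzv]; exact one_ne_zero) hzd d hd
    have e : vecMulVec v d = τ (-hw2 • d, d) + vecMulVec w d := by
      rw [hτ, hv, pure_add_left, pure_smul_right, sub_eq_add_neg, ← neg_smul, pure_add_left, pure_smul_left]
      abel
    rw [e] at hroot
    have step : ∀ q q', tB fU fA (τ q) (τ q') ≠ 0 → Root fU fA M (τ q + vecMulVec w d) →
        Root fU fA M (τ q' + vecMulVec w d) := by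
      intro q q' hne hq
      have hqq : q' - q ≠ 0 := fun e => hne (by rw [sub_eq_zero.1 e, S.B_self])
      have h := S.root_add hq (hT _ hqq) (by
        rw [S.B_add_left, S.B_swap (τ (q' - q)) (vecMulVec w d), hperp, neg_zero, add_zero, map_sub, ← S.Bl_apply,
          map_sub, S.Bl_apply, S.Bl_apply, S.B_self, sub_zero]
        exact hne)
      convert h using 1
      rw [map_sub]
      abel
    have hp₀ : ((-hw2 • d, d) : (Fin s → F) × (Fin s → F)) ≠ 0 := fun e => hd (congrArg Prod.snd e)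
    obtain ⟨q₁, hq₁⟩ := hdual _ hp₀
    obtain ⟨q₂, hq₂⟩ := hdual _ hp
    obtain ⟨q, hqa, hqb⟩ : ∃ q, tB fU fA (τ q) (τ (-hw2 • d, d)) ≠ 0 ∧ tB fU fA (τ q) (τ p) ≠ 0 := by
      by_cases h1 : tB fU fA (τ q₁) (τ p) = 0
      swap
      · exact ⟨q₁, hq₁, h1⟩
      by_cases h2 : tB fU fA (τ q₂) (τ (-hw2 • d, d)) = 0
      swap
      · exact ⟨q₂, h2, hq₂⟩
      exact ⟨q₁ + q₂, by rw [map_add, S.B_add_left, h2, add_zero]; exact hq₁,
        by rw [map_add, S.B_add_left, h1, zero_add]; exact hq₂⟩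
    refine step q p hqb (step _ q ?_ hroot)
    rw [S.B_swap (τ q)]
    exact neg_ne_zero.2 hqa
  have hdec : ∀ Y, ∃ p, ∃ b ∈ G, Y = τ p + b := by
    intro Y
    refine ⟨(∑ j, fU (fun i => Y i j) z' • (Pi.single j 1 : Fin s → F),
      ∑ j, fU (fun i => Y i j) z • (Pi.single j 1 : Fin s → F)), Y - τ _, ?_, (add_sub_cancel _ _).symm⟩
    have e : Y - τ (∑ j, fU (fun i => Y i j) z' • (Pi.single j 1 : Fin s → F),
        ∑ j, fU (fun i => Y i j) z • (Pi.single j 1 : Fin s → F))
        = ∑ j, vecMulVec ((fun i => Y i j) - fU (fun i => Y i j) z' • z - fU (fun i => Y i j) z • z')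
            (Pi.single j 1) := by
      conv_lhs => arg 1; rw [cols_sum Y]
      show _ - (plL s z _ + plL s z' _) = _
      simp only [LinearMap.fst_apply, LinearMap.snd_apply]
      rw [map_sum, map_sum, ← Finset.sum_add_distrib, ← Finset.sum_sub_distrib]
      refine Finset.sum_congr rfl fun j _ => ?_
      show _ - (vecMulVec z _ + vecMulVec z' _) = _
      rw [pure_smul_right, pure_smul_right, sub_eq_add_neg (_ - _), sub_eq_add_neg (fun i => Y i j), pure_add_left,
        pure_add_left, pure_neg_left, pure_neg_left, pure_smul_left, pure_smul_left]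
      abel
    rw [e]
    refine G.sum_mem fun j _ => hgen _ _ ?_ ?_
    · rw [S.sym.sub_left, S.sym.sub_left, S.sym.smul_left, S.sym.smul_left, hzz, hz'z]; ring
    · rw [S.sym.sub_left, S.sym.sub_left, S.sym.smul_left, S.sym.smul_left, hzz', hz'z']; ring
  obtain ⟨p, b, hb, rfl⟩ := hdec X
  rcases eq_or_ne p 0 with rfl | hp
  swap
  · exact hb.2 p hp
  rw [map_zero, zero_add]
  rcases eq_or_ne b 0 with rfl | hb0
  · intro l
    exact ⟨1, M.one_mem, fun Y => by rw [op_one, smul_zero, add_zero]⟩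
  obtain ⟨Y, hY⟩ : ∃ Y, tB fU fA b Y ≠ 0 := by
    by_contra hno
    push Not at hno
    exact hb0 (S.B_nondeg hno)
  obtain ⟨q, b', hb', rfl⟩ := hdec Y
  have hbb : tB fU fA b b' ≠ 0 := by
    rwa [S.B_add_right, S.B_swap (τ q) b, hb.1, neg_zero, zero_add] at hY
  obtain ⟨a, ha⟩ : ∃ a : Fin s → F, a ≠ 0 := ⟨c, hc⟩
  have hp₀ : ((a, 0) : (Fin s → F) × (Fin s → F)) ≠ 0 := fun e => ha (congrArg Prod.fst e)
  have h := S.root_add (hb'.2 _ hp₀) ((G.sub_mem hb hb').2 _ (neg_ne_zero.2 hp₀)) (by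
    simp only [S.B_add_left, S.B_add_right, (G.sub_mem hb hb').1, S.B_swap (τ (-(a, 0))) b', hb'.1, neg_zero,
      add_zero, zero_add]
    rw [map_neg, ← neg_one_smul F (τ (a, 0)), S.B_smul_right, S.B_self, mul_zero, zero_add, ← S.Bl_apply, map_sub,
      S.Bl_apply, S.Bl_apply, S.B_self, sub_zero, S.B_swap b b']
    exact neg_ne_zero.2 hbb)
  convert h using 1
  rw [map_neg]
  abel

/-- The dichotomy. -/
theorem kron_or_all : M ≤ Cfsg.Geo.kroneckerSubgroup r s F ∨ ∀ X, Root fU fA M X := by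
  by_cases hT : CentScalar M fA
  · left
    rcases S.large with h | h
    · exact S.kron_of_centScalar_three hT h
    · rcases Nat.lt_or_ge s 3 with hs | hs
      · exact S.kron_of_centScalar_two hT (by have := S.two_le; omega) h
      · exact S.kron_of_centScalar_three hT hs
  · right
    obtain ⟨z, c, hz, hzz, hc, h⟩ := S.exists_root hT
    exact S.root_all hz hzz hc h

/-- A transvection is not a Kronecker product. -/
theorem not_kron_of_trans {g : GL (Fin r × Fin s) F} {X : Matrix (Fin r) (Fin s) F} (hX : X ≠ 0)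
    (hg : ∀ Y, op g Y = Y + tB fU fA Y X • X) : g ∉ Cfsg.Geo.kroneckerSubgroup r s F := by
  rintro ⟨A, C, hAC⟩
  have hr := S.three_le
  have hs := S.two_le
  have hpure : ∀ v e, op g (vecMulVec v e) =
      vecMulVec ((A : Matrix (Fin r) (Fin r) F) *ᵥ v) ((C : Matrix (Fin s) (Fin s) F) *ᵥ e) := fun v e => by
    rw [op_kron hAC, mul_vecMulVec, vecMulVec_mul, vecMul_transpose]
  have hmem : ∀ Y, op g Y - Y ∈ F ∙ X := fun Y => by
    rw [hg, add_sub_cancel_left]
    exact Submodule.smul_mem _ _ (Submodule.mem_span_singleton_self X)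
  have hCe : ∀ e, ∃ t : F, Matrix.mulVecLin (C : Matrix (Fin s) (Fin s) F) e = t • e := by
    intro e
    rw [Matrix.mulVecLin_apply]
    by_contra hne
    have hne' : (C : Matrix (Fin s) (Fin s) F) *ᵥ e ∉ F ∙ e := fun hm => by
      obtain ⟨t, ht⟩ := Submodule.mem_span_singleton.1 hm
      exact hne ⟨t, ht.symm⟩
    obtain ⟨φ, hφ0, hφ1⟩ := exists_sep hne'
    let L : (Fin r → F) →ₗ[F] Matrix (Fin r) (Fin s) F := (op g - LinearMap.id).comp (pl r e)
    have hL : Function.Injective L := by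
      intro v v' h
      have h' := congrArg (fun Z => Z *ᵥ φ) h
      simp only [L, LinearMap.comp_apply, LinearMap.sub_apply, LinearMap.id_apply, pl_apply, hpure, sub_mulVec,
        pure_mulVec, hφ1, hφ0 e (Submodule.mem_span_singleton_self e), one_smul, zero_smul, sub_zero] at h'
      have h'' := congrArg (fun z => ((A⁻¹ : GL (Fin r) F) : Matrix (Fin r) (Fin r) F) *ᵥ z) h'
      simpa [mulVec_mulVec] using h''
    have h1 := LinearMap.finrank_range_of_inj hL
    rw [Module.finrank_fin_fun] at h1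
    have h2 := Submodule.finrank_mono (show LinearMap.range L ≤ F ∙ X by rintro _ ⟨v, rfl⟩; exact hmem _)
    rw [finrank_span_singleton hX] at h2
    omega
  obtain ⟨ν, hν⟩ := exists_scalar_of_eigen (Matrix.mulVecLin (C : Matrix (Fin s) (Fin s) F)) hCe
  have hA : ∀ v, ν • ((A : Matrix (Fin r) (Fin r) F) *ᵥ v) - v = 0 := by
    intro v
    by_contra hne
    have h2 := Submodule.finrank_mono (show LinearMap.range (plL s (ν • ((A : Matrix (Fin r) (Fin r) F) *ᵥ v) - v))
        ≤ F ∙ X by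
      rintro _ ⟨e, rfl⟩
      have h := hmem (vecMulVec v e)
      rw [hpure, show (C : Matrix (Fin s) (Fin s) F) *ᵥ e = ν • e from hν e, pure_smul_right, ← pure_smul_left] at h
      show vecMulVec (_ - _) e ∈ F ∙ X
      rwa [sub_eq_add_neg, pure_add_left, pure_neg_left, ← sub_eq_add_neg])
    have hinj : Function.Injective (plL s (ν • ((A : Matrix (Fin r) (Fin r) F) *ᵥ v) - v)) := by
      intro p q h
      obtain ⟨φ, hφ⟩ := exists_dot_one hne
      have h' := congrArg (fun Z => φ ᵥ* Z) h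
      change φ ᵥ* vecMulVec _ p = φ ᵥ* vecMulVec _ q at h'
      rwa [vecMul_pure, vecMul_pure, dotProduct_comm, hφ, one_smul, one_smul] at h'
    rw [LinearMap.finrank_range_of_inj hinj, Module.finrank_fin_fun, finrank_span_singleton hX] at h2
    omega
  have hid : ∀ Y, op g Y = Y := lin_ext (L := op g) (L' := LinearMap.id) fun v e => by
    rw [hpure, show (C : Matrix (Fin s) (Fin s) F) *ᵥ e = ν • e from hν e, pure_smul_right, ← pure_smul_left,
      sub_eq_zero.1 (hA v), LinearMap.id_apply]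
  refine hX (S.B_nondeg fun Y => ?_)
  have h := hg Y
  rw [hid, left_eq_add] at h
  rw [S.B_swap Y X, (smul_eq_zero.1 h).resolve_right hX, neg_zero]

end MSetup

end Cfsg.Agent.Lib.TensorMixed
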