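import Cfsg.Agent.Lib.TensorMixed.Basic

/-!
Central and radical elements at a pure space; if the central ones are scalar, so are the radical ones.
-/

set_option autoImplicit false
set_option linter.unusedSectionVars false

namespace Cfsg.Agent.Lib.TensorMixed

open Matrix Cfsg.Agent.Lib Cfsg.Agent.Lib.TensorMax Cfsg.Agent.Lib.TensorForm

variable {F : Type*} [Field F] {r s : ℕ}

/-- A central element at `c`. -/
def Cent (M : Subgroup (GL (Fin r × Fin s) F)) (fA : (Fin s → F) → (Fin s → F) → F) (c : Fin s → F)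
    (Z : (Fin r → F) →ₗ[F] (Fin r → F)) : Prop :=
  ∃ g ∈ M, ∀ X, op g X = X + vecMulVec (Z (kap fA c X)) c

/-- A radical element at `c`. -/
def Radel (M : Subgroup (GL (Fin r × Fin s) F)) (fA : (Fin s → F) → (Fin s → F) → F) (c : Fin s → F)
    (γ : Matrix (Fin r) (Fin s) F →ₗ[F] (Fin r → F)) : Prop :=
  ∃ g ∈ M, (∀ x, op g (vecMulVec x c) = vecMulVec x c) ∧
    ∀ X, kap fA c X = 0 → op g X = X + vecMulVec (γ X) c

/-- All central elements are scalar. -/
def CentScalar (M : Subgroup (GL (Fin r × Fin s) F)) (fA : (Fin s → F) → (Fin s → F) → F) : Prop :=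
  ∀ c, c ≠ 0 → ∀ Z, Cent M fA c Z → ∃ l : F, ∀ v, Z v = l • v

/-- All radical elements are scalar on pure tensors. -/
def RadScalar (M : Subgroup (GL (Fin r × Fin s) F)) (fA : (Fin s → F) → (Fin s → F) → F) : Prop :=
  ∀ c, c ≠ 0 → ∀ γ, Radel M fA c γ → ∀ e, fA e c = 0 → ∃ l : F, ∀ u, γ (vecMulVec u e) = l • u

namespace MSetup

variable {fU : (Fin r → F) → (Fin r → F) → F} {fA : (Fin s → F) → (Fin s → F) → F}
  {M : Subgroup (GL (Fin r × Fin s) F)} (S : MSetup fU fA M)
include S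

theorem kap_self (c : Fin s → F) (x : Fin r → F) : kap fA c (vecMulVec x c) = 0 := by
  rw [S.kap_pure, S.alt.self, zero_smul]

theorem kap_of_map {g : GL (Fin r × Fin s) F} (hg : g ∈ M) {c d : Fin s → F}
    {α : (Fin r → F) → (Fin r → F)} (hα : ∀ u, op g (vecMulVec u c) = vecMulVec (α u) d)
    (X : Matrix (Fin r) (Fin s) F) (u : Fin r → F) :
    fU (kap fA d (op g X)) (α u) = fU (kap fA c X) u := by
  rw [← S.B_pure, ← hα, S.iso g hg, S.B_pure]

theorem kap_fix {g : GL (Fin r × Fin s) F} (hg : g ∈ M) {c : Fin s → F}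
    (h : ∀ x, op g (vecMulVec x c) = vecMulVec x c) (X : Matrix (Fin r) (Fin s) F) :
    kap fA c (op g X) = kap fA c X :=
  S.extU fun u => S.kap_of_map hg (α := fun v => v) h X u

theorem radel_add {c : Fin s → F} {γ γ' : Matrix (Fin r) (Fin s) F →ₗ[F] (Fin r → F)}
    (h : Radel M fA c γ) (h' : Radel M fA c γ') : Radel M fA c (γ + γ') := by
  obtain ⟨g, hg, hf, hγ⟩ := h
  obtain ⟨g', hg', hf', hγ'⟩ := h'
  refine ⟨g * g', M.mul_mem hg hg', fun x => by rw [op_mul, hf', hf], fun X hX => ?_⟩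
  rw [op_mul, hγ' X hX, map_add, hγ X hX, hf, LinearMap.add_apply, pure_add_left]
  abel

theorem radel_neg {c : Fin s → F} {γ : Matrix (Fin r) (Fin s) F →ₗ[F] (Fin r → F)}
    (h : Radel M fA c γ) : Radel M fA c (-γ) := by
  obtain ⟨g, hg, hf, hγ⟩ := h
  refine ⟨g⁻¹, M.inv_mem hg, fun x => by conv_lhs => rw [← hf x, op_inv_op], fun X hX => ?_⟩
  refine op_injective g ?_
  rw [op_op_inv, map_add, hγ X hX, hf, LinearMap.neg_apply, pure_neg_left, add_neg_cancel_right]

theorem radel_conj {k : GL (Fin r × Fin s) F} (hk : k ∈ M) {c : Fin s → F}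
    {α : (Fin r → F) →ₗ[F] (Fin r → F)} (hα : ∀ u v, fU (α u) (α v) = fU u v)
    (hkc : ∀ u, op k (vecMulVec u c) = vecMulVec (α u) c)
    {γ : Matrix (Fin r) (Fin s) F →ₗ[F] (Fin r → F)} (h : Radel M fA c γ) :
    Radel M fA c (α.comp (γ.comp (op k⁻¹))) := by
  obtain ⟨g, hg, hf, hγ⟩ := h
  have hsur : Function.Surjective α := LinearMap.injective_iff_surjective.1
    (S.injective_sim S.sym one_ne_zero fun u v => by rw [hα, one_mul])
  refine ⟨k * g * k⁻¹, M.mul_mem (M.mul_mem hk hg) (M.inv_mem hk), fun x => ?_, fun X hX => ?_⟩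
  · obtain ⟨y, rfl⟩ := hsur x
    rw [op_mul, op_mul, ← hkc, op_inv_op, hf]
  · have h0 : kap fA c (op k⁻¹ X) = 0 := S.extU fun u => by
      rw [← S.kap_of_map hk hkc, op_op_inv, hX, S.sym.zero_left, S.sym.zero_left]
    rw [op_mul, op_mul, hγ _ h0, map_add, op_op_inv, hkc]
    rfl

theorem cent_zero (c : Fin s → F) : Cent M fA c 0 :=
  ⟨1, M.one_mem, fun X => by rw [op_one, LinearMap.zero_apply, pure_zero_left, add_zero]⟩

theorem cent_scalar (c : Fin s → F) (l : F) : Cent M fA c (l • LinearMap.id) := by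
  obtain ⟨g, hg, -, hX⟩ := S.exists_transA c l
  exact ⟨g, hg, fun X => by rw [hX, LinearMap.smul_apply, LinearMap.id_apply, pure_smul_left]⟩

theorem cent_add {c : Fin s → F} {Z Z' : (Fin r → F) →ₗ[F] (Fin r → F)} (h : Cent M fA c Z)
    (h' : Cent M fA c Z') : Cent M fA c (Z + Z') := by
  obtain ⟨g, hg, hX⟩ := h
  obtain ⟨g', hg', hX'⟩ := h'
  refine ⟨g * g', M.mul_mem hg hg', fun X => ?_⟩
  rw [op_mul, hX', hX, map_add, S.kap_self, add_zero, LinearMap.add_apply, pure_add_left]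
  abel

theorem cent_neg {c : Fin s → F} {Z : (Fin r → F) →ₗ[F] (Fin r → F)} (h : Cent M fA c Z) :
    Cent M fA c (-Z) := by
  obtain ⟨g, hg, hX⟩ := h
  refine ⟨g⁻¹, M.inv_mem hg, fun X => op_injective g ?_⟩
  rw [op_op_inv, hX, map_add, S.kap_self, add_zero, LinearMap.neg_apply, pure_neg_left, neg_add_cancel_right]

theorem cent_conj {k : GL (Fin r × Fin s) F} (hk : k ∈ M) {c d : Fin s → F}
    {α α' : (Fin r → F) →ₗ[F] (Fin r → F)} (hα' : ∀ u v, fU u (α' v) = fU (α u) v)
    (hkc : ∀ u, op k (vecMulVec u c) = vecMulVec (α u) d) {Z : (Fin r → F) →ₗ[F] (Fin r → F)}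
    (h : Cent M fA c Z) : Cent M fA d (α.comp (Z.comp α')) := by
  obtain ⟨g, hg, hX⟩ := h
  refine ⟨k * g * k⁻¹, M.mul_mem (M.mul_mem hk hg) (M.inv_mem hk), fun X => ?_⟩
  have h0 : kap fA c (op k⁻¹ X) = α' (kap fA d X) := S.extU fun u => by
    rw [← S.kap_of_map hk hkc, op_op_inv, S.symU u (α' _), hα', S.symU (kap fA d X) (α u)]
  rw [op_mul, op_mul, hX, map_add, op_op_inv, hkc, h0]
  rfl

variable [Finite F]

/-- Commutators of radical elements are central. -/
theorem cent_comm {c w w' e₀ : Fin s → F} (he₀ : fA e₀ c = 1) (hw : fA w c = 0) (hw' : fA w' c = 0)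
    (hww : fA w' w = 1) {N N' Na N'a : (Fin r → F) →ₗ[F] (Fin r → F)}
    (hNa : ∀ u v, fU u (Na v) = fU (N u) v) (hN'a : ∀ u v, fU u (N'a v) = fU (N' u) v)
    (h : Radel M fA c (N.comp (kap fA w))) (h' : Radel M fA c (N'.comp (kap fA w'))) :
    Cent M fA c (N.comp N'a + N'.comp Na) := by
  obtain ⟨g, hg, hf, hγ⟩ := h
  obtain ⟨g', hg', hf', hγ'⟩ := h'
  have hd : ∀ {k : GL (Fin r × Fin s) F}, k ∈ M → (∀ x, op k (vecMulVec x c) = vecMulVec x c) →
      ∀ Y, kap fA c (op k Y - Y) = 0 := fun hk hkf Y => by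
    rw [map_sub, S.kap_fix hk hkf, sub_self]
  have hΓ : ∀ {k : GL (Fin r × Fin s) F} {x y : Fin s → F} {L La : (Fin r → F) →ₗ[F] (Fin r → F)},
      k ∈ M → (∀ z, op k (vecMulVec z c) = vecMulVec z c) →
      (∀ X, kap fA c X = 0 → op k X = X + vecMulVec (L (kap fA y X)) c) →
      fA x c = 0 → (∀ u v, fU u (La v) = fU (L u) v) → ∀ v,
      kap fA x (op k (vecMulVec v e₀) - vecMulVec v e₀) = fA y x • La v := by
    intro k x y L La hk hkf hkγ hx hLa v
    refine S.extU fun u => ?_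
    have h1 := S.iso k hk (vecMulVec v e₀) (vecMulVec u x)
    rw [hkγ (vecMulVec u x) (by rw [S.kap_pure, hx, zero_smul]), S.B_add_right, S.B_pure, S.B_pure,
      S.kap_fix hk hkf, S.kap_pure y, map_smul, S.smulU, S.B_pure, S.kap_pure, S.kap_pure, he₀, one_smul] at h1
    rw [map_sub, S.sym.sub_left, S.sym.smul_left, S.symU u (La v), hLa, S.symU v (L u), S.kap_pure,
      S.alt.swap x y]
    linear_combination h1
  refine ⟨g * g' * (g' * g)⁻¹, M.mul_mem (M.mul_mem hg hg') (M.inv_mem (M.mul_mem hg' hg)), fun Y₀ => ?_⟩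
  obtain ⟨Y, rfl⟩ : ∃ Y, op (g' * g) Y = Y₀ := ⟨op (g' * g)⁻¹ Y₀, op_op_inv _ _⟩
  have hk : kap fA c (op (g' * g) Y) = kap fA c Y := by rw [op_mul, S.kap_fix hg' hf', S.kap_fix hg hf]
  let D : Matrix (Fin r) (Fin s) F →ₗ[F] (Fin r → F) :=
    (N.comp (kap fA w)).comp (op g' - LinearMap.id) - (N'.comp (kap fA w')).comp (op g - LinearMap.id)
  have e1 : op (g * g') Y = op (g' * g) Y + vecMulVec (D Y) c := by
    have a1 : op (g * g') Y = op g Y + (op g' Y - Y) + vecMulVec (N (kap fA w (op g' Y - Y))) c := by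
      rw [op_mul]
      conv_lhs => rw [← add_sub_cancel Y (op g' Y), map_add, hγ _ (hd hg' hf' Y)]
      simp only [LinearMap.comp_apply]
      abel
    have a2 : op (g' * g) Y = op g' Y + (op g Y - Y) + vecMulVec (N' (kap fA w' (op g Y - Y))) c := by
      rw [op_mul]
      conv_lhs => rw [← add_sub_cancel Y (op g Y), map_add, hγ' _ (hd hg hf Y)]
      simp only [LinearMap.comp_apply]
      abel
    rw [a1, a2, show D Y = N (kap fA w (op g' Y - Y)) - N' (kap fA w' (op g Y - Y)) from rfl,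
      show ∀ p q : Fin r → F, vecMulVec (p - q) c = vecMulVec p c - vecMulVec q c from fun p q => map_sub (pl r c) p q]
    abel
  have hD : D Y = D (vecMulVec (kap fA c Y) e₀) := by
    refine sub_eq_zero.1 ?_
    rw [← map_sub]
    set X := Y - vecMulVec (kap fA c Y) e₀
    have hX : kap fA c X = 0 := by rw [map_sub, S.kap_pure, he₀, one_smul, sub_self]
    show N (kap fA w (op g' X - X)) - N' (kap fA w' (op g X - X)) = 0
    rw [hγ X hX, hγ' X hX]
    simp only [add_sub_cancel_left, S.kap_pure, S.alt.form.eq_zero_symm hw, S.alt.form.eq_zero_symm hw',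
      zero_smul, map_zero, sub_zero]
  rw [op_mul, op_inv_op, e1, hk]
  congr 2
  rw [hD]
  show N (kap fA w (op g' (vecMulVec _ e₀) - vecMulVec _ e₀)) -
    N' (kap fA w' (op g (vecMulVec _ e₀) - vecMulVec _ e₀)) = _
  rw [hΓ hg' hf' (L := N') hγ' hw hN'a, hΓ hg hf (L := N) hγ hw' hNa, hww, S.alt.swap w' w, hww]
  simp only [LinearMap.add_apply, LinearMap.comp_apply, one_smul, neg_smul, map_neg, sub_neg_eq_add]

/-- The radical Kronecker elements. -/
theorem radel_scalar {c : Fin s → F} (w : Fin s → F) (hw : fA w c = 0) (l : F) :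
    Radel M fA c ((l • LinearMap.id).comp (kap fA w)) := by
  obtain ⟨g₁, hg₁, -, h₁⟩ := S.exists_transA (c + w) l
  obtain ⟨g₂, hg₂, -, h₂⟩ := S.exists_transA w (-l)
  obtain ⟨g₃, hg₃, -, h₃⟩ := S.exists_transA c (-l)
  have hcw := S.alt.form.eq_zero_symm hw
  refine ⟨g₁ * g₂ * g₃, M.mul_mem (M.mul_mem hg₁ hg₂) hg₃, fun x => ?_, fun X hX => ?_⟩
  · rw [op_mul, op_mul, h₃, h₂, h₁]
    simp only [S.kap_add, map_add, map_smul, S.kap_pure, S.alt.self, hcw, zero_smul, pure_zero_left, smul_zero,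
      add_zero]
  · rw [op_mul, op_mul, h₃, h₂, h₁]
    simp only [S.kap_add, map_add, map_smul, S.kap_pure, S.alt.self, hw, hcw, hX, zero_smul, pure_zero_left,
      smul_zero, add_zero, zero_add, pure_add_left, pure_add_right, LinearMap.comp_apply, LinearMap.smul_apply,
      LinearMap.id_apply, pure_smul_left]
    module

/-- If all central elements are scalar then so are all radical elements. -/
theorem radScalar (T : CentScalar M fA) : RadScalar M fA := by
  classical
  intro c hc γ hγ e he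
  obtain ⟨e₀, he₀⟩ := S.alt.form.exists_partner hc
  let N : (Fin r → F) →ₗ[F] (Fin r → F) := γ.comp (pl r e)
  by_contra hns
  -- the twist of `γ`
  have hN : Radel M fA c (N.comp (kap fA e)) := by
    obtain ⟨t, ht, -, htX⟩ := S.exists_transA e 1
    have htc : ∀ u, op t (vecMulVec u c) = vecMulVec (LinearMap.id (R := F) u) c := fun u => by
      rw [htX, S.kap_pure, S.alt.form.eq_zero_symm he, zero_smul, pure_zero_left, smul_zero, add_zero,
        LinearMap.id_apply]
    have h1 := S.radel_add hγ (S.radel_neg (S.radel_conj ht (α := LinearMap.id) (fun _ _ => rfl) htc hγ))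
    have hinv : ∀ X, op t⁻¹ X = X - vecMulVec (kap fA e X) e := fun X => op_injective t (by
      rw [op_op_inv, htX, map_sub, S.kap_self, sub_zero, one_smul, sub_add_cancel])
    obtain ⟨g, hg, hf, hX⟩ := h1
    refine ⟨g, hg, hf, fun X hX0 => ?_⟩
    rw [hX X hX0]
    congr 2
    show γ X + -(γ (op t⁻¹ X)) = γ (vecMulVec (kap fA e X) e)
    rw [hinv, map_sub, neg_sub, add_sub_cancel]
  -- a partner of `e`
  have hec : e ∉ F ∙ c := fun hmem => by
    obtain ⟨l, rfl⟩ := Submodule.mem_span_singleton.1 hmem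
    refine hns ⟨0, fun u => ?_⟩
    obtain ⟨g, hg, hf, hX⟩ := hγ
    have h := hX (vecMulVec u c) (S.kap_self c u)
    rw [hf, left_eq_add] at h
    have h0 : γ (vecMulVec u c) = 0 := pl_injective hc (h.trans (map_zero (pl r c)).symm)
    rw [pure_smul_right, map_smul, h0, smul_zero, zero_smul]
  obtain ⟨w, hwc, hwe⟩ := S.alt.exists_dual hec
  have hmove : ∀ L : (Fin r → F) →ₗ[F] (Fin r → F), Radel M fA c (L.comp (kap fA e)) →
      Radel M fA c (L.comp (kap fA w)) := by
    intro L hL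
    have hne : fA e w ≠ 0 := by rw [S.alt.swap w e, hwe]; exact neg_ne_zero.2 one_ne_zero
    obtain ⟨z, l, hz, hzperp⟩ := S.alt.exists_move hne
    obtain ⟨t, ht, -, htX⟩ := S.exists_transA z l
    have hzc : fA c z = 0 := hzperp c (S.alt.form.eq_zero_symm he) (S.alt.form.eq_zero_symm hwc)
    have htc : ∀ u, op t (vecMulVec u c) = vecMulVec (LinearMap.id (R := F) u) c := fun u => by
      rw [htX, S.kap_pure, hzc, zero_smul, pure_zero_left, smul_zero, add_zero, LinearMap.id_apply]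
    have hinv : ∀ X, op t⁻¹ X = X - l • vecMulVec (kap fA z X) z := fun X => op_injective t (by
      rw [op_op_inv, htX, map_sub, map_smul, S.kap_self, smul_zero, sub_zero, sub_add_cancel])
    obtain ⟨g, hg, hf, hX⟩ := S.radel_conj ht (α := LinearMap.id) (fun _ _ => rfl) htc hL
    refine ⟨g, hg, hf, fun X hX0 => ?_⟩
    rw [hX X hX0]
    congr 2
    show L (kap fA e (op t⁻¹ X)) = L (kap fA w X)
    rw [hinv, map_sub, map_smul, S.kap_pure, ← hz, S.kap_add, S.kap_smul, smul_smul, sub_eq_add_neg,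
      ← neg_smul, S.alt.swap e z, mul_neg, neg_neg]
  have key : ∀ L La : (Fin r → F) →ₗ[F] (Fin r → F), (∀ u v, fU u (La v) = fU (L u) v) →
      ∀ L' L'a : (Fin r → F) →ₗ[F] (Fin r → F), (∀ u v, fU u (L'a v) = fU (L' u) v) →
      Radel M fA c (L.comp (kap fA e)) → Radel M fA c (L'.comp (kap fA e)) →
      ∃ l : F, ∀ v, L (L'a v) + L' (La v) = l • v := fun L La h1 L' L'a h2 h3 h4 =>
    T c hc _ (S.cent_comm he₀ he hwc hwe h1 h2 h3 (hmove L' h4))
  obtain ⟨Na, hNa⟩ := S.exists_adj N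
  obtain ⟨m, hm⟩ := key N Na hNa LinearMap.id LinearMap.id (fun _ _ => rfl) hN (by
    have h := S.radel_scalar e he 1
    rwa [one_smul] at h)
  let N₀ : (Fin r → F) →ₗ[F] (Fin r → F) := N + (-(m / 2)) • LinearMap.id
  have hN₀ : Radel M fA c (N₀.comp (kap fA e)) := by
    rw [LinearMap.add_comp]; exact S.radel_add hN (S.radel_scalar e he _)
  have hskew : ∀ u v, fU (N₀ u) v = -fU u (N₀ v) := fun u v => by
    have h := congrArg (fun z => fU u z) (hm v)
    simp only [LinearMap.id_apply, S.sym.add_right, hNa, S.smulU] at h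
    simp only [N₀, LinearMap.add_apply, LinearMap.smul_apply, LinearMap.id_apply, S.sym.add_left, S.sym.add_right,
      S.sym.smul_left, S.smulU]
    linear_combination h - (fU u v) * div_mul_cancel₀ m S.two
  obtain ⟨u, hu, hu0⟩ : ∃ u, fU u u ≠ 0 ∧ N₀ u ≠ 0 := by
    by_contra hno
    push Not at hno
    refine hns ⟨m / 2, fun x => ?_⟩
    have h := S.span_aniso (LinearMap.ker N₀) (fun v hv => LinearMap.mem_ker.2 (hno v hv)) x
    rw [LinearMap.mem_ker] at h
    simp only [N₀, LinearMap.add_apply, LinearMap.smul_apply, LinearMap.id_apply, neg_smul] at h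
    exact eq_of_sub_eq_zero (by rw [sub_eq_add_neg]; exact h)
  set b := N₀ u with hb
  have hbu : fU b u = 0 := by
    have h := hskew u u
    rw [S.symU b u] at h
    exact (mul_eq_zero.1 (show 2 * fU b u = 0 by rw [hb] at *; linear_combination h)).resolve_left S.two
  set k := 2 / fU u u with hk
  let ρ := refl S.sym u
  obtain ⟨g, hg, -, hgp, hgk⟩ := S.exists_ortho (α := ρ) (S.refl_iso hu)
  let N₁ : (Fin r → F) →ₗ[F] (Fin r → F) := N₀ - ρ.comp (N₀.comp ρ)
  have hN₁ : Radel M fA c (N₁.comp (kap fA e)) := by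
    obtain ⟨g', hg', hf, hX⟩ := S.radel_add hN₀
      (S.radel_neg (S.radel_conj hg (S.refl_iso hu) (fun x => hgp x c) hN₀))
    refine ⟨g', hg', hf, fun X hX0 => ?_⟩
    rw [hX X hX0]
    congr 2
    have h1 : kap fA e (op g⁻¹ X) = ρ (kap fA e X) := by
      conv_rhs => rw [← op_op_inv g X, hgk, S.refl_refl hu]
    show N₀ _ + -(ρ (N₀ (kap fA e (op g⁻¹ X)))) = N₀ _ - ρ (N₀ (ρ _))
    rw [h1, sub_eq_add_neg]
  have hN₁x : ∀ x, N₁ x = (k * fU x u) • b - (k * fU x b) • u := fun x => by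
    simp only [N₁, ρ, LinearMap.sub_apply, LinearMap.comp_apply, S.refl_apply, map_sub, map_smul, ← hb, ← hk,
      S.sym.sub_left, S.sym.smul_left, hbu, S.refl_fix u hbu, hskew x u]
    module
  have hskew₁ : ∀ x y, fU x ((-N₁) y) = fU (N₁ x) y := fun x y => by
    simp only [LinearMap.neg_apply, hN₁x, neg_sub, S.sym.sub_left, S.sym.sub_right, S.sym.smul_left, S.smulU]
    rw [S.symU y u, S.symU y b]
    ring
  obtain ⟨l, hl⟩ := key N₁ (-N₁) hskew₁ N₁ (-N₁) hskew₁ hN₁ hN₁
  have hr := S.three_le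
  obtain ⟨x, hx, hx0⟩ := S.exists_orth ![u, b] ⊥ (by rw [finrank_bot]; omega)
  have hl0 : l = 0 := by
    have h := hl x
    simp only [LinearMap.neg_apply, hN₁x x, show fU x u = 0 from hx 0, show fU x b = 0 from hx 1, mul_zero,
      zero_smul, sub_zero, neg_zero, map_zero, add_zero] at h
    exact (smul_eq_zero.1 h.symm).resolve_right fun e => hx0 (by rw [e]; exact Submodule.zero_mem _)
  have hind : b ∉ F ∙ u := fun hmem => by
    obtain ⟨t, ht⟩ := Submodule.mem_span_singleton.1 hmem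
    rw [← ht, S.sym.smul_left] at hbu
    exact hu0 (by rw [← ht, (mul_eq_zero.1 hbu).resolve_right hu, zero_smul])
  obtain ⟨x', hx'u, hx'b⟩ := S.exists_dual_out hind
  have hxu : fU x' u = 0 := hx'u u (Submodule.mem_span_singleton_self u)
  have h := congrArg (fun z => fU z x') (hl x')
  have hk0 : k ≠ 0 := div_ne_zero S.two hu
  simp only [hl0, zero_smul, S.sym.zero_left, LinearMap.neg_apply, hN₁x x', hxu, hx'b, mul_zero, mul_one,
    zero_smul, zero_sub, neg_neg, map_smul, hN₁x u, show fU u b = 0 by rw [S.symU b u]; exact hbu,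
    sub_zero, S.sym.add_left, S.sym.smul_left, show fU b x' = 1 by rw [S.symU x' b]; exact hx'b] at h
  refine mul_ne_zero (mul_ne_zero S.two hk0) (mul_ne_zero hk0 hu) ?_
  linear_combination h

end MSetup

end Cfsg.Agent.Lib.TensorMixed
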