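import Cfsg.Agent.Lib.TensorMixed.Radical

/-!
If all central elements are scalar, stabilisers of pure spaces and conjugators of transvections of `A` into
the Kronecker group are Kronecker.
-/

set_option autoImplicit false
set_option linter.unusedSectionVars false

namespace Cfsg.Agent.Lib.TensorMixed

open Matrix Cfsg.Agent.Lib Cfsg.Agent.Lib.TensorMax Cfsg.Agent.Lib.TensorForm

variable {F : Type*} [Field F] {r s : ℕ}

/-- The pairing map of `g` at the pure space of `c`. -/
def pim (fA : (Fin s → F) → (Fin s → F) → F) (c : Fin s → F) (g : GL (Fin r × Fin s) F) :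
    (Fin r → F) →ₗ[F] (Fin r → F) :=
  (kap fA c).comp ((op g).comp (pl r c))

/-- Contraction of the first factor. -/
def rowc (φ : Fin r → F) : Matrix (Fin r) (Fin s) F →ₗ[F] (Fin s → F) where
  toFun X := φ ᵥ* X
  map_add' X Y := vecMul_add X Y φ
  map_smul' l X := vecMul_smul φ l X

/-- Matrices with given columns. -/
def ofCols (R : Submodule F (Fin r → F)) : (Fin s → R) →ₗ[F] Matrix (Fin r) (Fin s) F where
  toFun t := Matrix.of fun i j => (t j : Fin r → F) i
  map_add' t t' := by ext i j; simp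
  map_smul' l t := by ext i j; simp

theorem ofCols_injective (R : Submodule F (Fin r → F)) :
    Function.Injective (ofCols R : (Fin s → R) →ₗ[F] Matrix (Fin r) (Fin s) F) := fun t t' h =>
  funext fun j => Subtype.ext (funext fun i => congrFun (congrFun h i) j)

theorem mem_range_ofCols {R : Submodule F (Fin r → F)} {X : Matrix (Fin r) (Fin s) F}
    (h : ∀ j, (fun i => X i j) ∈ R) : X ∈ LinearMap.range (ofCols R) :=
  ⟨fun j => ⟨fun i => X i j, h j⟩, rfl⟩

theorem col_mem_range (L : (Fin r → F) →ₗ[F] (Fin r → F)) (X : Matrix (Fin r) (Fin s) F) (j : Fin s) :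
    (fun i => (LinearMap.toMatrix' L * X) i j) ∈ LinearMap.range L :=
  ⟨fun i => X i j, by rw [← LinearMap.toMatrix'_mulVec L]; rfl⟩

theorem finrank_range_ofCols (R : Submodule F (Fin r → F)) :
    Module.finrank F (LinearMap.range (ofCols R : (Fin s → R) →ₗ[F] Matrix (Fin r) (Fin s) F)) =
      s * Module.finrank F R := by
  rw [LinearMap.finrank_range_of_inj (ofCols_injective R), Module.finrank_pi_fintype, Finset.sum_const,
    Finset.card_univ, Fintype.card_fin, smul_eq_mul]

theorem cols_sum (X : Matrix (Fin r) (Fin s) F) :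
    X = ∑ j, vecMulVec (fun i => X i j) (Pi.single j 1) := by
  ext p q
  simp [Matrix.sum_apply, vecMulVec_apply, Pi.single_apply]

namespace MSetup

variable {fU : (Fin r → F) → (Fin r → F) → F} {fA : (Fin s → F) → (Fin s → F) → F}
  {M : Subgroup (GL (Fin r × Fin s) F)} (S : MSetup fU fA M)
include S

variable [Finite F]

/-- An element fixing a pure space pointwise is Kronecker. -/
theorem kron_of_fix (T : CentScalar M fA) {c : Fin s → F} (hc : c ≠ 0) {g : GL (Fin r × Fin s) F}
    (hg : g ∈ M) (hfix : ∀ x, op g (vecMulVec x c) = vecMulVec x c) :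
    g ∈ Cfsg.Geo.kroneckerSubgroup r s F := by
  classical
  have R := S.radScalar T
  obtain ⟨e₀, he₀⟩ := S.alt.form.exists_partner hc
  obtain ⟨φc, hφc⟩ := exists_dot_one hc
  obtain ⟨u₀, hu₀⟩ : ∃ u₀ : Fin r → F, u₀ ≠ 0 :=
    ⟨Pi.single ⟨0, by have := S.three_le; omega⟩ 1, by simp⟩
  obtain ⟨φ₀, hφ₀⟩ := exists_dot_one hu₀
  have hgi : ∀ x, op g⁻¹ (vecMulVec x c) = vecMulVec x c := fun x => by
    conv_lhs => rw [← hfix x, op_inv_op]
  have hgk : ∀ X, kap fA c (op g⁻¹ X) = kap fA c X := S.kap_fix (M.inv_mem hg) hgi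
  let P : (Fin s → F) →ₗ[F] (Fin s → F) :=
    LinearMap.id - rk1 S.alt.form e₀ c + rk1 S.alt.form c e₀
  have hP : ∀ x, P x = x - fA x c • e₀ + fA x e₀ • c := fun x => rfl
  have hce : fA c e₀ = -1 := by rw [S.alt.swap e₀ c, he₀]
  have hPc : ∀ x, fA (P x) c = 0 := fun x => by
    rw [hP, S.alt.form.add_left, S.alt.form.sub_left, S.alt.form.smul_left, S.alt.form.smul_left, he₀, S.alt.self]
    ring
  have hPe : ∀ x, fA (P x) e₀ = 0 := fun x => by
    rw [hP, S.alt.form.add_left, S.alt.form.sub_left, S.alt.form.smul_left, S.alt.form.smul_left, hce, S.alt.self]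
    ring
  let ρ : (Fin s → F) →ₗ[F] (Fin s → F) := P ∘ₗ rowc φ₀ ∘ₗ op g⁻¹ ∘ₗ plL s u₀ ∘ₗ P
  let β : (Fin s → F) →ₗ[F] (Fin s → F) := rk1 S.alt.form e₀ c - rk1 S.alt.form c e₀ + ρ
  have hβ : ∀ x, β x = fA x c • e₀ - fA x e₀ • c + ρ x := fun x => rfl
  have hkill : ∀ Z : Matrix (Fin r) (Fin s) F, (∀ w, fA w c = 0 → kap fA w Z = 0) →
      Z ∈ LinearMap.range (pl r c) := fun Z hZ => mem_pl_of_kill hc fun ψ hψ => by
    obtain ⟨w, rfl⟩ := S.alt.form.exists_cov ψ
    rw [S.alt.form.dot_cov] at hψ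
    exact hZ w (S.alt.form.eq_zero_symm hψ)
  -- the induced map on `c⊥ / c`
  have key : ∀ d, fA d c = 0 → ∀ u, ∃ m,
      op g⁻¹ (vecMulVec u d) = vecMulVec u (β d) + vecMulVec m c := by
    intro d hd u
    have hPd : d = P d - fA d e₀ • c := by rw [hP, hd, zero_smul, sub_zero, add_sub_cancel_right]
    have main : ∃ b, fA b c = 0 ∧ ∀ u, ∃ m, op g⁻¹ (vecMulVec u (P d)) = vecMulVec u b + vecMulVec m c ∧
        b = φ₀ ᵥ* op g⁻¹ (vecMulVec u₀ (P d)) := by
      let b := φ₀ ᵥ* op g⁻¹ (vecMulVec u₀ (P d))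
      have hw : ∀ w, fA w c = 0 → ∀ u, kap fA w (op g⁻¹ (vecMulVec u (P d))) = fA b w • u := by
        intro w hw
        have hrad : Radel M fA c ((kap fA w).comp (op g⁻¹)) := by
          have h := S.radel_conj hg (α := LinearMap.id) (fun _ _ => rfl) hfix (S.radel_scalar w hw 1)
          simpa [LinearMap.id_comp, one_smul] using h
        obtain ⟨l, hl⟩ := R c hc _ hrad (P d) (hPc d)
        have hbl : fA b w = l := by
          have h := congrArg (fun z => φ₀ ⬝ᵥ z) (hl u₀)
          simp only [LinearMap.comp_apply, S.kap_apply, dotProduct_smul, smul_eq_mul] at h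
          rw [dotProduct_mulVec, S.alt.form.dot_cov, dotProduct_comm φ₀ u₀, hφ₀, mul_one] at h
          exact h
        intro u
        rw [hbl]; exact hl u
      refine ⟨b, ?_, fun u => ?_⟩
      · have h := congrArg (fun z => φ₀ ⬝ᵥ z) (hw c (S.alt.self c) u₀)
        simp only [hgk, S.kap_pure, hPc, dotProduct_smul, smul_eq_mul, zero_mul, dotProduct_comm φ₀ u₀, hφ₀,
          mul_one] at h
        exact h.symm
      · obtain ⟨m, hm⟩ := hkill (op g⁻¹ (vecMulVec u (P d)) - vecMulVec u b)
          fun w hw' => by rw [map_sub, hw w hw' u, S.kap_pure, sub_self]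
        exact ⟨m, by rw [pl_apply] at hm; rw [hm, add_sub_cancel], rfl⟩
    obtain ⟨b, hbc, hb⟩ := main
    obtain ⟨m, hm, hbdef⟩ := hb u
    have hρ : ρ d = b + fA b e₀ • c := by
      show P (φ₀ ᵥ* op g⁻¹ (vecMulVec u₀ (P d))) = _
      rw [← hbdef, hP, hbc, zero_smul, sub_zero]
    refine ⟨m - fA b e₀ • u, ?_⟩
    conv_lhs => rw [hPd, pure_sub_right, map_sub, hm, pure_smul_right, map_smul, hgi]
    rw [hβ, hd, zero_smul, zero_sub, hρ, pure_add_right, pure_add_right,
      show vecMulVec (m - fA b e₀ • u) c = vecMulVec m c - vecMulVec (fA b e₀ • u) c from map_sub (pl r c) _ _,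
      ← neg_smul, pure_smul_right, pure_smul_right, pure_smul_left]
    module
  have hPP : ∀ x, fA (P x) c = 0 ∧ β (P x) = ρ (P x) := fun x =>
    ⟨hPc x, by rw [hβ, hPc, hPe, zero_smul, zero_smul, sub_zero, zero_add]⟩
  have hρP : ∀ x, ρ (P x) = ρ x := fun x => by
    have : P (P x) = P x := by rw [hP (P x), hPc, hPe, zero_smul, zero_smul, sub_zero, add_zero]
    show P _ = P _
    simp only [LinearMap.comp_apply, this]
  have hρc : ∀ x, fA (ρ x) c = 0 ∧ fA (ρ x) e₀ = 0 := fun x => ⟨hPc _, hPe _⟩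
  have hiso : ∀ x y, fA (β x) (β y) = fA x y := by
    have hD : ∀ x y, fA (ρ x) (ρ y) = fA (P x) (P y) := fun x y => by
      obtain ⟨m, hm⟩ := key (P x) (hPc x) u₀
      obtain ⟨w, hw⟩ := S.sym.nondeg u₀ hu₀
      obtain ⟨m', hm'⟩ := key (P y) (hPc y) w
      have h := S.iso g⁻¹ (M.inv_mem hg) (vecMulVec u₀ (P x)) (vecMulVec w (P y))
      rw [hm, hm', (hPP x).2, (hPP y).2, hρP, hρP, S.B_add_left, S.B_add_right, S.B_add_right] at h
      simp only [S.B_pure_pure, (hρc x).1, S.alt.self, S.alt.form.eq_zero_symm (hρc y).1, zero_mul,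
        add_zero] at h
      exact mul_right_cancel₀ hw h
    intro x y
    have hcx : ∀ x, fA c (ρ x) = 0 := fun x => S.alt.form.eq_zero_symm (hρc x).1
    have hex : ∀ x, fA e₀ (ρ x) = 0 := fun x => S.alt.form.eq_zero_symm (hρc x).2
    simp only [hβ, S.alt.form.add_left, S.alt.form.add_right, S.alt.form.sub_left, S.alt.form.sub_right,
      S.alt.form.smul_left, S.smulA, S.alt.self, hcx, hex, (hρc x).1, (hρc x).2, hD, hP, he₀, hce]
    rw [S.alt.swap y e₀, S.alt.swap y c]
    ring
  obtain ⟨k, hk, hkk, hkX⟩ := S.exists_sp hiso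
  have hβc : β c = c := by
    have hPc0 : P c = 0 := by rw [hP, S.alt.self, hce, zero_smul, sub_zero, neg_one_smul, add_neg_cancel]
    rw [hβ, S.alt.self, hce, ← hρP, hPc0, map_zero, zero_smul, zero_sub, add_zero, neg_one_smul, neg_neg]
  have hgk2 : g * k ∈ M := M.mul_mem hg hk
  have hfix2 : ∀ x, op (g * k) (vecMulVec x c) = vecMulVec x c := fun x => by rw [op_mul, hkX, hβc, hfix]
  -- it is radical
  let γ : Matrix (Fin r) (Fin s) F →ₗ[F] (Fin r → F) := (contr r φc).comp (op (g * k) - LinearMap.id)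
  have hpureD : ∀ u d, fA d c = 0 →
      op (g * k) (vecMulVec u d) = vecMulVec u d + vecMulVec (γ (vecMulVec u d)) c := by
    intro u d hd
    obtain ⟨m, hm⟩ := key d hd u
    have hm' := congrArg (op g) hm
    rw [op_op_inv, map_add, hfix] at hm'
    have e : op (g * k) (vecMulVec u d) = vecMulVec u d - vecMulVec m c := by
      rw [op_mul, hkX, hm', add_sub_cancel_right]
    rw [show γ (vecMulVec u d) = (op (g * k) (vecMulVec u d) - vecMulVec u d) *ᵥ φc from rfl, e, sub_sub_cancel_left,
      neg_mulVec, pure_mulVec, hφc, one_smul, pure_neg_left, sub_eq_add_neg]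
  have hrad : Radel M fA c γ := by
    refine ⟨g * k, hgk2, hfix2, fun X hX => ?_⟩
    have hrow : ∀ i, fA (X i) c = 0 := fun i => by rw [← S.alt.form.dot_cov]; exact congrFun hX i
    rw [eq_sum_rows X, map_sum, map_sum, ← pl_apply c, map_sum, ← Finset.sum_add_distrib]
    exact Finset.sum_congr rfl fun i _ => hpureD _ _ (hrow i)
  choose l hl using fun x => R c hc γ hrad (P x) (hPc x)
  let lf : (Fin s → F) →ₗ[F] F :=
    { toFun := fun x => φ₀ ⬝ᵥ γ (vecMulVec u₀ (P x))
      map_add' := fun x y => by simp only [map_add, pure_add_right, dotProduct_add]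
      map_smul' := fun t x => by simp only [map_smul, pure_smul_right, dotProduct_smul]; rfl }
  have hlf : ∀ x, lf x = l x := fun x => by
    show φ₀ ⬝ᵥ γ (vecMulVec u₀ (P x)) = l x
    rw [hl, dotProduct_smul, dotProduct_comm φ₀, hφ₀, smul_eq_mul, mul_one]
  obtain ⟨φ, hφ⟩ := exists_dot_of_dual lf
  obtain ⟨w, rfl⟩ := S.alt.form.exists_cov φ
  have hw : ∀ x, fA x w = lf x := fun x => by rw [← S.alt.form.dot_cov]; exact hφ x
  have hwc : fA w c = 0 := S.alt.form.eq_zero_symm <| by
    have hPc0 : P c = 0 := by rw [hP, S.alt.self, hce, zero_smul, sub_zero, neg_one_smul, add_neg_cancel]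
    rw [hw, show lf c = φ₀ ⬝ᵥ γ (vecMulVec u₀ (P c)) from rfl, hPc0, pure_zero_right, map_zero, dotProduct_zero]
  obtain ⟨g₁, hg₁, -, h₁⟩ := S.exists_transA (c + w) (-1)
  obtain ⟨g₂, hg₂, -, h₂⟩ := S.exists_transA w 1
  obtain ⟨g₃, hg₃, -, h₃⟩ := S.exists_transA c 1
  have hcw := S.alt.form.eq_zero_symm hwc
  have hsmall : ∀ u d, fA d c = 0 → γ (vecMulVec u d) = fA d w • u := by
    intro u d hd
    have hPd : d = P d - fA d e₀ • c := by rw [hP, hd, zero_smul, sub_zero, add_sub_cancel_right]
    have hγc : γ (vecMulVec u c) = 0 := by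
      show (op (g * k) (vecMulVec u c) - vecMulVec u c) *ᵥ φc = 0
      rw [hfix2, sub_self, zero_mulVec]
    rw [hw, hlf, ← hl d u]
    conv_lhs => rw [hPd, pure_sub_right, map_sub, pure_smul_right, map_smul, hγc, smul_zero, sub_zero]
  set h := g₁ * g₂ * g₃ * (g * k) with hh
  have hhM : h ∈ M := M.mul_mem (M.mul_mem (M.mul_mem hg₁ hg₂) hg₃) hgk2
  have hhX : ∀ X, kap fA c X = 0 → op h X = X := by
    intro X hX
    have hrow : ∀ i, fA (X i) c = 0 := fun i => by rw [← S.alt.form.dot_cov]; exact congrFun hX i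
    rw [eq_sum_rows X, map_sum]
    refine Finset.sum_congr rfl fun i _ => ?_
    rw [hh, op_mul, hpureD _ _ (hrow i), hsmall _ _ (hrow i), pure_smul_left, op_mul, op_mul, h₃, h₂, h₁]
    simp only [S.kap_add, map_add, map_smul, S.kap_pure, hrow i, S.alt.self, hwc, hcw, zero_smul, smul_zero,
      pure_zero_left, add_zero, zero_add, pure_smul_left, pure_add_left, pure_add_right]
    module
  -- it is central
  let Z : (Fin r → F) →ₗ[F] (Fin r → F) := (contr r φc).comp ((op h - LinearMap.id).comp (pl r e₀))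
  have hX1 : ∀ X, op h X = X + vecMulVec (Z (kap fA c X)) c := by
    intro X
    have e : op h X - X = op h (vecMulVec (kap fA c X) e₀) - vecMulVec (kap fA c X) e₀ := by
      have h0 := hhX (X - vecMulVec (kap fA c X) e₀) (by rw [map_sub, S.kap_pure, he₀, one_smul, sub_self])
      rw [map_sub, sub_eq_sub_iff_add_eq_add] at h0
      rw [sub_eq_sub_iff_add_eq_add, h0, add_comm]
    obtain ⟨m, hm⟩ : op h X - X ∈ LinearMap.range (pl r c) := hkill _ fun w' hw' => S.extU fun u => by
      rw [S.sym.zero_left, ← S.B_pure, S.B_sub_left]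
      conv_lhs => arg 1; rw [← hhX (vecMulVec u w') (by rw [S.kap_pure, hw', zero_smul]), S.iso h hhM]
      rw [sub_self]
    rw [pl_apply] at hm
    have hZ : Z (kap fA c X) = (op h X - X) *ᵥ φc := by rw [e]; rfl
    rw [hZ, ← hm, pure_mulVec, hφc, one_smul, hm, add_sub_cancel]
  obtain ⟨z, hz⟩ := T c hc Z ⟨h, hhM, hX1⟩
  obtain ⟨t, -, htk, htX⟩ := S.exists_transA c z
  have hht : h = t := ext_op fun X => by rw [hX1, htX, hz, pure_smul_left]
  obtain ⟨q₁, hq₁, hq₁k, hq₁X⟩ := S.exists_transA (c + w) (-1)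
  obtain ⟨q₂, hq₂, hq₂k, hq₂X⟩ := S.exists_transA w 1
  obtain ⟨q₃, hq₃, hq₃k, hq₃X⟩ := S.exists_transA c 1
  have e₁ : g₁ = q₁ := ext_op fun X => by rw [h₁, hq₁X]
  have e₂ : g₂ = q₂ := ext_op fun X => by rw [h₂, hq₂X]
  have e₃ : g₃ = q₃ := ext_op fun X => by rw [h₃, hq₃X]
  have e : g = (q₁ * q₂ * q₃)⁻¹ * t * k⁻¹ := by rw [← hht, hh, e₁, e₂, e₃]; group
  rw [e]
  exact mul_mem (mul_mem (inv_mem (mul_mem (mul_mem hq₁k hq₂k) hq₃k)) htk) (inv_mem hkk)

/-- An element mapping a pure space into a pure space is Kronecker. -/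
theorem kron_of_map (T : CentScalar M fA) {c d : Fin s → F} (hc : c ≠ 0) (hd : d ≠ 0)
    {g : GL (Fin r × Fin s) F} (hg : g ∈ M)
    (h : ∀ u, op g (vecMulVec u c) ∈ LinearMap.range (pl r d)) :
    g ∈ Cfsg.Geo.kroneckerSubgroup r s F := by
  obtain ⟨φd, hφd⟩ := exists_dot_one hd
  let α : (Fin r → F) →ₗ[F] (Fin r → F) := (contr r φd).comp ((op g).comp (pl r c))
  have hα : ∀ u, op g (vecMulVec u c) = vecMulVec (α u) d := fun u => by
    obtain ⟨v, hv⟩ := h u
    rw [pl_apply] at hv
    show _ = vecMulVec (op g (vecMulVec u c) *ᵥ φd) d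
    rw [← hv, pure_mulVec, hφd, one_smul]
  have hinj : Function.Injective α := fun x y e => pl_injective hc (op_injective g (by
    rw [pl_apply, pl_apply, hα, hα, e]))
  obtain ⟨β₁, hβ₁, hβ₁d⟩ := S.exists_sp_move hd hc
  obtain ⟨k₁, hk₁, hk₁k, hk₁X⟩ := S.exists_sp hβ₁
  obtain ⟨α', hα'⟩ := S.exists_adj α
  obtain ⟨μ, hμ⟩ := T c hc _ (S.cent_conj (M.mul_mem hk₁ hg) hα'
    (fun u => by rw [op_mul, hα, hk₁X, hβ₁d]) (S.cent_scalar c 1))
  have h1 : ∀ v, α' (α v) = μ • v := fun v => hinj (by
    rw [map_smul]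
    simpa using hμ (α v))
  have hsim : ∀ u v, fU (α u) (α v) = μ * fU u v := fun u v => by rw [← hα', h1, S.smulU]
  have hμ0 : μ ≠ 0 := by
    intro e
    obtain ⟨v, hv⟩ : ∃ v : Fin r → F, v ≠ 0 := ⟨Pi.single ⟨0, by have := S.three_le; omega⟩ 1, by simp⟩
    refine hv (hinj (S.extU fun u => ?_))
    obtain ⟨u', rfl⟩ := LinearMap.injective_iff_surjective.1 hinj u
    rw [hsim, e, zero_mul, map_zero, S.sym.zero_left]
  obtain ⟨β₀, hβ₀, hβ₀c⟩ := S.exists_similitude hc (inv_ne_zero hμ0)
  obtain ⟨k₂, hk₂, hk₂k, hk₂X⟩ := S.exists_kron hμ0 hsim hβ₀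
  have hfix : ∀ x, op (k₂⁻¹ * (k₁ * g)) (vecMulVec x c) = vecMulVec x c := fun x => by
    rw [op_mul, op_mul, hα, hk₁X, hβ₁d]
    conv_lhs => rw [← hβ₀c, ← hk₂X, op_inv_op]
  have h2 := S.kron_of_fix T hc (M.mul_mem (M.inv_mem hk₂) (M.mul_mem hk₁ hg)) hfix
  have e : g = k₁⁻¹ * (k₂ * (k₂⁻¹ * (k₁ * g))) := by group
  rw [e]
  exact mul_mem (inv_mem hk₁k) (mul_mem hk₂k h2)

/-- A conjugate of a transvection of `A` that is Kronecker has a Kronecker conjugator. -/
theorem kron_of_conj (T : CentScalar M fA) {c : Fin s → F} (hc : c ≠ 0)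
    {g t : GL (Fin r × Fin s) F} (hg : g ∈ M) (htX : ∀ X, op t X = X + vecMulVec (kap fA c X) c)
    (hy : g * t * g⁻¹ ∈ Cfsg.Geo.kroneckerSubgroup r s F) : g ∈ Cfsg.Geo.kroneckerSubgroup r s F := by
  classical
  obtain ⟨e₀, he₀⟩ := S.alt.form.exists_partner hc
  set y := g * t * g⁻¹ with hydef
  have hyX : ∀ X, op y X = X + op g (vecMulVec (kap fA c (op g⁻¹ X)) c) := fun X => by
    rw [hydef, op_mul, op_mul, htX, map_add, op_op_inv]
  have hquad : ∀ X, op y (op y X) - (2 : F) • op y X + X = 0 := fun X => by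
    rw [hyX (op y X)]
    conv_lhs => arg 1; arg 1; arg 2; rw [hyX X, map_add, op_inv_op, map_add, S.kap_self, add_zero]
    rw [hyX X]
    module
  have hW : ∀ u, op g (vecMulVec u c) = op y (op g (vecMulVec u e₀)) - op g (vecMulVec u e₀) := fun u => by
    rw [hyX, op_inv_op, S.kap_pure, he₀, one_smul, add_sub_cancel_left]
  have hyW : ∀ X, op y X - X ∈ wsub g c := fun X => by
    rw [hyX, add_sub_cancel_left]; exact ⟨_, rfl⟩
  have hr := S.three_le
  have hs := S.two_le
  obtain ⟨u₀, hu₀⟩ : ∃ u₀ : Fin r → F, u₀ ≠ 0 := ⟨Pi.single ⟨0, by omega⟩ 1, by simp⟩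
  obtain ⟨A, C, hAC⟩ := hy
  have hop : ∀ X, op y X = (A : Matrix (Fin r) (Fin r) F) * X * (C : Matrix (Fin s) (Fin s) F)ᵀ := op_kron hAC
  have hpure : ∀ u e, op y (vecMulVec u e) =
      vecMulVec ((A : Matrix (Fin r) (Fin r) F) *ᵥ u) ((C : Matrix (Fin s) (Fin s) F) *ᵥ e) := fun u e => by
    rw [hop, mul_vecMulVec, vecMulVec_mul, vecMul_transpose]
  by_cases hA : ∀ u, ∃ t : F, (A : Matrix (Fin r) (Fin r) F) *ᵥ u = t • u
  · -- `y` is `1 ⊗ G`
    obtain ⟨a, ha⟩ := exists_scalar_of_eigen (Matrix.mulVecLin (A : Matrix (Fin r) (Fin r) F)) hA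
    simp only [Matrix.mulVecLin_apply] at ha
    obtain ⟨e, he⟩ : ∃ e : Fin s → F, a • ((C : Matrix (Fin s) (Fin s) F) *ᵥ e) - e ≠ 0 := by
      by_contra hno
      push Not at hno
      have hid : ∀ X, op y X = X :=
        lin_ext (L := op y) (L' := LinearMap.id) fun u e => by
          rw [hpure, ha, pure_smul_left, ← pure_smul_right, sub_eq_zero.1 (hno e), LinearMap.id_apply]
      have := hW u₀
      rw [hid, sub_self] at this
      exact hu₀ (pl_injective hc (op_injective g (by rw [pl_apply, this, map_zero, map_zero])))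
    set j := a • ((C : Matrix (Fin s) (Fin s) F) *ᵥ e) - e
    have hle : LinearMap.range (pl r j) ≤ wsub g c := by
      rintro _ ⟨u, rfl⟩
      have := hyW (vecMulVec u e)
      rwa [hpure, ha, pure_smul_left, ← pure_smul_right, ← pure_sub_right] at this
    have heq : LinearMap.range (pl r j) = wsub g c :=
      Submodule.eq_of_le_of_finrank_eq hle (by rw [finrank_range_pl he, finrank_wsub g hc])
    exact S.kron_of_map T hc he hg fun u => heq ▸ ⟨u, rfl⟩
  · push Not at hA
    obtain ⟨u₁, hu₁⟩ := hA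
    obtain ⟨φ, hφ0, hφ1⟩ := exists_sep (T := F ∙ u₁) (x := (A : Matrix (Fin r) (Fin r) F) *ᵥ u₁)
      (fun hm => by
        obtain ⟨t, ht⟩ := Submodule.mem_span_singleton.1 hm
        exact hu₁ t ht.symm)
    set b := ((A : Matrix (Fin r) (Fin r) F) *ᵥ ((A : Matrix (Fin r) (Fin r) F) *ᵥ u₁)) ⬝ᵥ φ
    have hCinj : Function.Injective fun e => (C : Matrix (Fin s) (Fin s) F) *ᵥ e := fun p q e => by
      have := congrArg (fun z => ((C⁻¹ : GL (Fin s) F) : Matrix (Fin s) (Fin s) F) *ᵥ z) e
      simpa [mulVec_mulVec] using this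
    have hC : ∀ e, b • ((C : Matrix (Fin s) (Fin s) F) *ᵥ e) = (2 : F) • e := fun e => by
      refine hCinj ?_
      show (C : Matrix (Fin s) (Fin s) F) *ᵥ _ = (C : Matrix (Fin s) (Fin s) F) *ᵥ _
      have h := congrArg (fun Z => φ ᵥ* Z) (hquad (vecMulVec u₁ e))
      simp only [hpure, vecMul_add, vecMul_sub, vecMul_smul, vecMul_pure, vecMul_zero, dotProduct_comm φ,
        hφ1, hφ0 _ (Submodule.mem_span_singleton_self u₁), one_smul, zero_smul, add_zero] at h
      rw [mulVec_smul, mulVec_smul]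
      exact sub_eq_zero.1 h
    have hb : b ≠ 0 := by
      intro e0
      obtain ⟨e, he⟩ := S.alt.form.exists_partner hc
      have h := hC e
      rw [e0, zero_smul] at h
      have he' : e = 0 := (smul_eq_zero.1 h.symm).resolve_left S.two
      rw [he', S.alt.form.zero_left] at he
      exact zero_ne_one he
    let L : (Fin r → F) →ₗ[F] (Fin r → F) :=
      (2 / b) • Matrix.mulVecLin (A : Matrix (Fin r) (Fin r) F) - LinearMap.id
    have hyL : ∀ X, op y X - X = LinearMap.toMatrix' L * X := by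
      refine lin_ext (L := op y - LinearMap.id)
        (L' := { toFun := fun X => LinearMap.toMatrix' L * X
                 map_add' := Matrix.mul_add _
                 map_smul' := fun l X => Matrix.mul_smul _ l X }) fun u e => ?_
      simp only [LinearMap.sub_apply, LinearMap.id_apply, LinearMap.coe_mk, AddHom.coe_mk, mul_vecMulVec,
        LinearMap.toMatrix'_mulVec, L, LinearMap.smul_apply, Matrix.mulVecLin_apply, hpure,
        show vecMulVec (((2 / b) • ((A : Matrix (Fin r) (Fin r) F) *ᵥ u)) - u) e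
          = vecMulVec ((2 / b) • ((A : Matrix (Fin r) (Fin r) F) *ᵥ u)) e - vecMulVec u e
          from map_sub (pl r e) _ _]
      have h2 : (C : Matrix (Fin s) (Fin s) F) *ᵥ e = (2 / b) • e := by
        rw [div_eq_inv_mul, mul_smul, ← hC e, smul_smul, inv_mul_cancel₀ hb, one_smul]
      rw [h2, pure_smul_right, pure_smul_left]
    set U₀ := LinearMap.range L
    have hWeq : wsub g c = LinearMap.range (ofCols U₀) := by
      refine le_antisymm ?_ ?_
      · rintro _ ⟨u, rfl⟩
        rw [LinearMap.comp_apply, pl_apply, hW, hyL]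
        exact mem_range_ofCols fun j => col_mem_range L _ j
      · rintro _ ⟨f, rfl⟩
        choose z hz using fun j => LinearMap.mem_range.1 (f j).2
        have : ofCols U₀ f = LinearMap.toMatrix' L * Matrix.of fun i j => z j i := by
          ext i j
          show (f j : Fin r → F) i = _
          rw [← hz j, ← LinearMap.toMatrix'_mulVec L]
          rfl
        rw [this, ← hyL]
        exact hyW _
    have hk : r = s * Module.finrank F U₀ := by
      rw [← finrank_range_ofCols (s := s) U₀, ← hWeq, finrank_wsub g hc]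
    have hmemW : ∀ z ∈ U₀, ∀ e : Fin s → F, vecMulVec z e ∈ wsub g c := fun z hz e => by
      rw [hWeq]; exact mem_range_ofCols fun j => by
        have : (fun i => vecMulVec z e i j) = e j • z := funext fun i => by simp [vecMulVec_apply, mul_comm]
        rw [this]; exact U₀.smul_mem _ hz
    have hWiso : ∀ X ∈ wsub g c, ∀ Y ∈ wsub g c, tB fU fA X Y = 0 := by
      rintro _ ⟨x, rfl⟩ _ ⟨x', rfl⟩
      show tB fU fA (op g (vecMulVec x c)) (op g (vecMulVec x' c)) = 0
      rw [S.iso g hg, S.B_pure_pure, S.alt.self, zero_mul]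
    -- an isometry fixing `W` pointwise
    have hmain : ∀ α : (Fin r → F) →ₗ[F] (Fin r → F), (∀ u v, fU (α u) (α v) = fU u v) →
        (∀ z ∈ U₀, α z = z) → α ≠ LinearMap.id → ∀ R : Submodule F (Fin r → F), (∀ x, α x - x ∈ R) →
        ∃ q : GL (Fin r × Fin s) F, q ∈ M ∧ ∃ j : Fin s → F, j ≠ 0 ∧ wsub q j ≤ LinearMap.range (ofCols R) := by
      intro α hα hfix hne R hR
      obtain ⟨k, hk', -, hkp, -⟩ := S.exists_ortho hα
      have hkX : ∀ X, op k X = ∑ j, vecMulVec (α fun i => X i j) (Pi.single j 1) := fun X => by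
        conv_lhs => rw [cols_sum X, map_sum]
        simp only [hkp]
      have hkfix : ∀ X ∈ wsub g c, op k X = X := fun X hX => by
        rw [hWeq] at hX
        obtain ⟨f, rfl⟩ := hX
        rw [hkX]
        conv_rhs => rw [cols_sum (ofCols U₀ f)]
        exact Finset.sum_congr rfl fun j _ => by
          rw [show (fun i => ofCols U₀ f i j) = (f j : Fin r → F) from rfl, hfix _ (f j).2]
      set h := g⁻¹ * k * g with hhdef
      have hhfix : ∀ x, op h (vecMulVec x c) = vecMulVec x c := fun x => by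
        rw [hhdef, op_mul, op_mul, hkfix (op g (vecMulVec x c)) ⟨x, rfl⟩]
        exact op_inv_op g _
      have hhM : h ∈ M := M.mul_mem (M.mul_mem (M.inv_mem hg) hk') hg
      obtain ⟨G, hG⟩ := exists_right_mul (by omega) hc (S.kron_of_fix T hc hhM hhfix) hhfix
      obtain ⟨e, he⟩ : ∃ e : Fin s → F, e ᵥ* G - e ≠ 0 := by
        by_contra hno
        push Not at hno
        refine hne (LinearMap.ext fun x => ?_)
        obtain ⟨e, he⟩ : ∃ e : Fin s → F, e ≠ 0 := ⟨Pi.single ⟨0, by omega⟩ 1, by simp⟩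
        have hid : ∀ X, op h X = X := lin_ext (L := op h) (L' := LinearMap.id) fun u e => by
          rw [hG, vecMulVec_mul, sub_eq_zero.1 (hno e), LinearMap.id_apply]
        have h' := congrArg (op g) (hid (op g⁻¹ (vecMulVec x e)))
        rw [hhdef, op_mul, op_mul, op_op_inv, op_op_inv, hkp] at h'
        exact pl_injective he h'
      refine ⟨g, hg, e ᵥ* G - e, he, ?_⟩
      rintro _ ⟨u, rfl⟩
      have e' : op g (vecMulVec u (e ᵥ* G - e)) = op k (op g (vecMulVec u e)) - op g (vecMulVec u e) := by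
        rw [pure_sub_right, map_sub, ← vecMulVec_mul, ← hG, hhdef, op_mul, op_mul, op_op_inv]
      rw [LinearMap.comp_apply, pl_apply, e']
      refine mem_range_ofCols fun j => ?_
      have hcol : (fun i => (op k (op g (vecMulVec u e)) - op g (vecMulVec u e)) i j) =
          α (fun i => op g (vecMulVec u e) i j) - fun i => op g (vecMulVec u e) i j := by
        funext i
        rw [hkX]
        simp [Matrix.sum_apply, vecMulVec_apply, Pi.single_apply]
      rw [hcol]
      exact hR _
    exfalso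
    have hk1 : 1 ≤ Module.finrank F U₀ := by
      by_contra h0
      rw [Nat.lt_one_iff.1 (Nat.not_le.1 h0), mul_zero] at hk
      omega
    by_cases hani : ∃ u, fU u u ≠ 0 ∧ ∀ z ∈ U₀, fU z u = 0
    · obtain ⟨u, hu, hperp⟩ := hani
      obtain ⟨q, hq, j, hj, hle⟩ := hmain (refl S.sym u) (S.refl_iso hu) (fun z hz => S.refl_fix u (hperp z hz))
        (fun e => by
          have h := LinearMap.congr_fun e u
          rw [S.refl_self hu, LinearMap.id_apply] at h
          refine hu ?_
          have h2 : (2 : F) • u = 0 := by rw [two_smul]; nth_rw 1 [← h]; exact neg_add_cancel u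
          rw [(smul_eq_zero.1 h2).resolve_left S.two, S.sym.zero_left])
        (F ∙ u) (fun x => by
          rw [S.refl_apply, sub_sub_cancel_left]
          exact Submodule.neg_mem _ (Submodule.smul_mem _ _ (Submodule.mem_span_singleton_self u)))
      have hu0 : u ≠ 0 := fun e => hu (by rw [e, S.sym.zero_left])
      have hdim := Submodule.finrank_mono hle
      rw [finrank_wsub q hj, finrank_range_ofCols, finrank_span_singleton hu0, mul_one] at hdim
      have hsr : s ≤ r := by rw [hk]; exact Nat.le_mul_of_pos_right _ hk1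
      have heq : wsub q j = LinearMap.range (ofCols (F ∙ u)) := Submodule.eq_of_le_of_finrank_eq hle (by
        rw [finrank_wsub q hj, finrank_range_ofCols, finrank_span_singleton hu0, mul_one]; omega)
      obtain ⟨e, he⟩ := S.alt.form.exists_partner hc
      have hmem : ∀ e : Fin s → F, vecMulVec u e ∈ wsub q j := fun e => by
        rw [heq]; exact mem_range_ofCols fun i' => by
          have : (fun i => vecMulVec u e i i') = e i' • u := funext fun i => by simp [vecMulVec_apply, mul_comm]
          rw [this]; exact Submodule.smul_mem _ _ (Submodule.mem_span_singleton_self u)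
      obtain ⟨x, hx⟩ := hmem e
      obtain ⟨x', hx'⟩ := hmem c
      have h0 : tB fU fA (vecMulVec u e) (vecMulVec u c) = 0 := by
        rw [← hx, ← hx', LinearMap.comp_apply, LinearMap.comp_apply, S.iso q hq, pl_apply, pl_apply,
          S.B_pure_pure, S.alt.self, zero_mul]
      rw [S.B_pure_pure, he, one_mul] at h0
      exact hu h0
    · push Not at hani
      let Up : Submodule F (Fin r → F) :=
        { carrier := {x | ∀ z ∈ U₀, fU z x = 0}
          zero_mem' := fun z _ => S.sym.zero_right z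
          add_mem' := fun hx hy z hz => by rw [S.sym.add_right, hx z hz, hy z hz, add_zero]
          smul_mem' := fun l x hx z hz => by rw [S.smulU, hx z hz, mul_zero] }
      have hpol : ∀ x ∈ Up, ∀ x' ∈ Up, fU x x' = 0 := fun x hx x' hx' => by
        have hq : ∀ y ∈ Up, fU y y = 0 := fun y hy => by
          by_contra hne
          obtain ⟨z, hz, hzy⟩ := hani y hne
          exact hzy (hy z hz)
        have h1 := hq _ (Up.add_mem hx hx')
        rw [S.sym.add_left, S.sym.add_right, S.sym.add_right, hq x hx, hq x' hx', S.symU x x'] at h1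
        exact (mul_eq_zero.1 (show 2 * fU x x' = 0 by linear_combination h1)).resolve_left S.two
      have hU0 : ∀ z ∈ U₀, ∀ z' ∈ U₀, fU z z' = 0 := fun z hz z' hz' => by
        obtain ⟨e, he⟩ := S.alt.form.exists_partner hc
        have h := hWiso _ (hmemW z hz e) _ (hmemW z' hz' c)
        rwa [S.B_pure_pure, he, one_mul] at h
      have hUpU0 : Up ≤ U₀ := fun x hx => by
        by_contra hx0
        obtain ⟨a, ha, ha1⟩ := S.exists_dual_out hx0
        have haU : a ∈ Up := fun z hz => by rw [S.symU a z]; exact ha z hz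
        rw [hpol a haU x hx] at ha1
        exact zero_ne_one ha1
      have hUpdim : r ≤ Module.finrank F U₀ + Module.finrank F Up := by
        obtain ⟨Bs⟩ : Nonempty (Module.Basis (Fin (Module.finrank F U₀)) F U₀) := ⟨Module.finBasis F U₀⟩
        by_contra hlt
        obtain ⟨v, hv, hvT⟩ := S.exists_orth (fun i => (Bs i : Fin r → F)) Up (Nat.not_le.1 hlt)
        refine hvT fun z hz => ?_
        have h1 : (⟨z, hz⟩ : U₀) = ∑ i, Bs.repr ⟨z, hz⟩ i • Bs i := (Bs.sum_repr _).symm
        have h2 : z = ∑ i, Bs.repr ⟨z, hz⟩ i • (Bs i : Fin r → F) := by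
          have h3 := congrArg U₀.subtype h1
          rw [map_sum] at h3
          simpa only [map_smul, Submodule.coe_subtype] using h3
        rw [h2, S.symU v]
        have hlin : fU v (∑ i, Bs.repr ⟨z, hz⟩ i • (Bs i : Fin r → F)) = 0 := by
          let Lv : (Fin r → F) →+ F :=
            { toFun := fun w => fU v w
              map_zero' := S.sym.zero_right v
              map_add' := fun p q => S.sym.add_right v p q }
          show Lv _ = 0
          rw [map_sum]
          exact Finset.sum_eq_zero fun i _ => by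
            show fU v (_ • _) = 0
            rw [S.smulU, hv i, mul_zero]
        exact hlin
      have := Submodule.finrank_mono hUpU0
      have hs2 : s = 2 := by
        by_contra hne
        have : 3 * Module.finrank F U₀ ≤ s * Module.finrank F U₀ := Nat.mul_le_mul_right _ (by omega)
        omega
      have h7 : 7 ≤ r := S.large.resolve_left (by omega)
      obtain ⟨z, hz, hz0⟩ := Submodule.exists_mem_ne_zero_of_ne_bot
        (show U₀ ≠ ⊥ from fun e => by rw [e, finrank_bot] at hk1; omega)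
      obtain ⟨w, hw, hwz⟩ : ∃ w ∈ U₀, w ∉ F ∙ z := by
        by_contra hno
        push Not at hno
        have := Submodule.finrank_mono (show U₀ ≤ F ∙ z from hno)
        rw [finrank_span_singleton hz0] at this
        rw [hs2] at hk
        omega
      let α : (Fin r → F) →ₗ[F] (Fin r → F) := LinearMap.id + rk1 S.sym w z - rk1 S.sym z w
      have hαx : ∀ x, α x = x + fU x z • w - fU x w • z := fun x => rfl
      have hα : ∀ u v, fU (α u) (α v) = fU u v := fun u v => by
        simp only [hαx, S.sym.add_left, S.sym.add_right, S.sym.sub_left, S.sym.sub_right, S.sym.smul_left, S.smulU,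
          hU0 z hz z hz, hU0 z hz w hw, hU0 w hw z hz, hU0 w hw w hw]
        linear_combination (fU u z) * S.symU v w - (fU u w) * S.symU v z
      obtain ⟨q, -, j, hj, hle⟩ := hmain α hα
        (fun x hx => by rw [hαx, hU0 x hx z hz, hU0 x hx w hw, zero_smul, zero_smul, add_zero, sub_zero])
        (fun e => by
          obtain ⟨x, hx, hx1⟩ := S.exists_dual_out hwz
          have h := LinearMap.congr_fun e x
          rw [hαx, hx z (Submodule.mem_span_singleton_self z), hx1, zero_smul, add_zero, one_smul, LinearMap.id_apply,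
            sub_eq_self] at h
          exact hz0 h)
        ((F ∙ z) ⊔ (F ∙ w)) (fun x => by
          rw [hαx, show x + fU x z • w - fU x w • z - x = (-fU x w) • z + fU x z • w by module]
          exact Submodule.add_mem_sup (Submodule.smul_mem _ _ (Submodule.mem_span_singleton_self z))
            (Submodule.smul_mem _ _ (Submodule.mem_span_singleton_self w)))
      have hdim := Submodule.finrank_mono hle
      rw [finrank_wsub q hj, finrank_range_ofCols] at hdim
      have hadd := Submodule.finrank_add_le_finrank_add_finrank (F ∙ z) (F ∙ w)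
      rw [finrank_span_singleton hz0, finrank_span_singleton (fun e => hwz (by rw [e]; exact Submodule.zero_mem _))]
        at hadd
      rw [hs2] at hdim
      omega

end MSetup

end Cfsg.Agent.Lib.TensorMixed
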