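import Cfsg.Agent.Lib.TensorMixed.Escape
import Cfsg.Agent.Lib.FormMax.OrthBasic

/-!
If all central elements are scalar, `dim A = 2` and `dim U ≥ 7`, everything is Kronecker.
-/

set_option autoImplicit false
set_option linter.unusedSectionVars false

namespace Cfsg.Agent.Lib.TensorMixed

open Matrix Cfsg.Agent.Lib Cfsg.Agent.Lib.TensorMax Cfsg.Agent.Lib.TensorForm

variable {F : Type*} [Field F] [Finite F] {r s : ℕ}
  {fU : (Fin r → F) → (Fin r → F) → F} {fA : (Fin s → F) → (Fin s → F) → F}
  {M : Subgroup (GL (Fin r × Fin s) F)}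

namespace MSetup

variable (S : MSetup fU fA M)
include S

/-- `fU` as a bilinear map. -/
noncomputable def Ul : LinearMap.BilinForm F (Fin r → F) :=
  LinearMap.mk₂ F fU S.sym.add_left S.sym.smul_left S.sym.add_right S.smulU

theorem Ul_apply (u v : Fin r → F) : S.Ul u v = fU u v := rfl

theorem goodU : Forms.IsGoodForm (V := Fin r → F) S.Ul 1 :=
  Forms.IsGoodForm.of_isSymm ⟨fun u v => by rw [S.Ul_apply, S.Ul_apply]; exact (S.symU u v).symm⟩
    ⟨fun u hu => S.extU fun v => by rw [S.sym.zero_left]; exact hu v,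
     fun v hv => S.extU fun u => by rw [S.sym.zero_left, S.symU u v]; exact hv u⟩ S.two

/-- A singular vector in a subspace of dimension at least `3`. -/
theorem exists_sing (K : Submodule F (Fin r → F)) (h : 3 ≤ Module.finrank F K) :
    ∃ z ∈ K, z ≠ 0 ∧ fU z z = 0 := by
  let L : (Fin (Module.finrank F K) → F) →ₗ[F] (Fin r → F) :=
    K.subtype.comp (Module.finBasis F K).equivFun.symm.toLinearMap
  have hL : Function.Injective L :=
    Subtype.val_injective.comp (Module.finBasis F K).equivFun.symm.injective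
  obtain ⟨x, hx0, hx⟩ := FormMax.OrthSL.exists_zero_fin S.two h
    ((LinearMap.BilinMap.toQuadraticMap S.Ul).comp L)
  exact ⟨L x, ((Module.finBasis F K).equivFun.symm x).2, fun e => hx0 (hL (by rw [e, map_zero])), hx⟩

theorem exists_small (T : CentScalar M fA) {g : GL (Fin r × Fin s) F} (hg : g ∈ M)
    (hgK : g ∉ Cfsg.Geo.kroneckerSubgroup r s F) (hrs : s < r) {c : Fin s → F} (hc : c ≠ 0) :
    ∃ g' ∈ M, g' ∉ Cfsg.Geo.kroneckerSubgroup r s F ∧
      Module.finrank F (LinearMap.range (pim fA c g')) ≤ s := by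
  classical
  by_contra hno
  push Not at hno
  have hW : ∀ u, fU u u ≠ 0 → ∀ X ∈ wsub g c, vecMulVec u (cov fU u ᵥ* X) ∈ wsub g c := by
    intro u hu
    obtain ⟨k, hk, -, hkp, -⟩ := S.exists_ortho (α := refl S.sym u) (S.refl_iso hu)
    have hkX : ∀ X, op k X = X - (2 / fU u u) • vecMulVec u (cov fU u ᵥ* X) :=
      lin_ext (L := op k) (L' := LinearMap.id - (2 / fU u u) • (plL s u).comp (rowc (cov fU u))) fun v e => by
        rw [hkp, S.refl_apply]
        show _ = vecMulVec v e - (2 / fU u u) • vecMulVec u (cov fU u ᵥ* vecMulVec v e)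
        rw [vecMul_pure, dotProduct_comm, S.sym.dot_cov, pure_smul_right, smul_smul]
        exact (map_sub (pl r e) _ _).trans (by rw [map_smul]; rfl)
    set g' := g⁻¹ * k * g with hg'
    have hg'M : g' ∈ M := M.mul_mem (M.mul_mem (M.inv_mem hg) hk) hg
    have hdiff : ∀ X, op g' X - X = -((2 / fU u u) • op g⁻¹ (vecMulVec u (cov fU u ᵥ* op g X))) := fun X => by
      rw [hg', op_mul, op_mul, hkX, map_sub, op_inv_op, map_smul, sub_sub_cancel_left]
    let Rg : Submodule F (Matrix (Fin r) (Fin s) F) := LinearMap.range ((op g⁻¹).comp (plL s u))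
    have hRg : Module.finrank F Rg ≤ s :=
      (LinearMap.finrank_range_le _).trans (le_of_eq (Module.finrank_fin_fun F))
    have hdR : ∀ X, op g' X - X ∈ Rg := fun X => by
      rw [hdiff]; exact Rg.neg_mem (Rg.smul_mem _ ⟨_, rfl⟩)
    have hg'K : g' ∈ Cfsg.Geo.kroneckerSubgroup r s F := by
      by_contra h
      have hle : LinearMap.range (pim fA c g') ≤ Rg.map (kap fA c) := by
        rintro _ ⟨v, rfl⟩
        refine ⟨_, hdR (vecMulVec v c), ?_⟩
        rw [map_sub, S.kap_self, sub_zero]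
        rfl
      exact absurd ((Submodule.finrank_mono hle).trans ((Submodule.finrank_map_le _ _).trans hRg))
        (not_le.2 (hno g' hg'M h))
    obtain ⟨A, C, hAC⟩ := hg'K
    have hpure : ∀ v e, op g' (vecMulVec v e) =
        vecMulVec ((A : Matrix (Fin r) (Fin r) F) *ᵥ v) ((C : Matrix (Fin s) (Fin s) F) *ᵥ e) := fun v e => by
      rw [op_kron hAC, mul_vecMulVec, vecMulVec_mul, vecMul_transpose]
    have hCc : (C : Matrix (Fin s) (Fin s) F) *ᵥ c ∈ F ∙ c := by
      by_contra hne
      obtain ⟨φ, hφ0, hφ1⟩ := exists_sep hne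
      let L : (Fin r → F) →ₗ[F] Matrix (Fin r) (Fin s) F := (op g' - LinearMap.id).comp (pl r c)
      have hL : Function.Injective L := by
        intro v v' h
        have h' := congrArg (fun Z => Z *ᵥ φ) h
        simp only [L, LinearMap.comp_apply, LinearMap.sub_apply, LinearMap.id_apply, pl_apply, hpure, sub_mulVec,
          pure_mulVec, hφ1, hφ0 c (Submodule.mem_span_singleton_self c), one_smul, zero_smul, sub_zero] at h'
        have h'' := congrArg (fun z => ((A⁻¹ : GL (Fin r) F) : Matrix (Fin r) (Fin r) F) *ᵥ z) h'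
        simpa [mulVec_mulVec] using h''
      have h1 := LinearMap.finrank_range_of_inj hL
      rw [Module.finrank_fin_fun] at h1
      have h2 := Submodule.finrank_mono (show LinearMap.range L ≤ Rg by rintro _ ⟨v, rfl⟩; exact hdR _)
      omega
    obtain ⟨ν, hν⟩ := Submodule.mem_span_singleton.1 hCc
    rintro _ ⟨v, rfl⟩
    have h := congrArg (op g) (hdiff (vecMulVec v c))
    rw [map_sub, map_neg, map_smul, op_op_inv, hpure, ← hν, pure_smul_right, map_smul] at h
    have hk2 : (2 / fU u u) ≠ 0 := div_ne_zero S.two hu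
    rw [LinearMap.comp_apply, pl_apply]
    have hmem : ∀ x, op g (vecMulVec x c) ∈ wsub g c := fun x => ⟨x, rfl⟩
    have h' := (wsub g c).sub_mem ((wsub g c).smul_mem ν (hmem ((A : Matrix (Fin r) (Fin r) F) *ᵥ v))) (hmem v)
    rw [h] at h'
    exact (Submodule.smul_mem_iff _ hk2).1 (Submodule.neg_mem_iff _ |>.1 h')
  obtain ⟨v₀, hv₀⟩ : ∃ v : Fin r → F, v ≠ 0 := ⟨Pi.single ⟨0, by omega⟩ 1, by simp⟩
  set X := op g (vecMulVec v₀ c) with hXdef
  have hX0 : X ≠ 0 := fun e => hv₀ (pl_injective hc (op_injective g (by rw [pl_apply, ← hXdef, e, map_zero, map_zero])))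
  obtain ⟨u, hu, hψ⟩ : ∃ u, fU u u ≠ 0 ∧ cov fU u ᵥ* X ≠ 0 := by
    by_contra h
    push Not at h
    let R : Submodule F (Fin r → F) :=
      { carrier := {u | cov fU u ᵥ* X = 0}
        zero_mem' := by
          show cov fU 0 ᵥ* X = 0
          rw [show cov fU (0 : Fin r → F) = 0 from funext fun _ => S.sym.zero_right _, zero_vecMul]
        add_mem' := fun {p q} hp hq => by
          show cov fU (p + q) ᵥ* X = 0
          rw [S.sym.cov_add, add_vecMul, show cov fU p ᵥ* X = 0 from hp, show cov fU q ᵥ* X = 0 from hq, add_zero]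
        smul_mem' := fun l {p} hp => by
          show cov fU (l • p) ᵥ* X = 0
          rw [S.sym.cov_smul, smul_vecMul, show cov fU p ᵥ* X = 0 from hp, smul_zero] }
    refine hX0 (Matrix.ext_iff_vecMul.2 fun φ => ?_)
    obtain ⟨p, rfl⟩ := S.sym.exists_cov φ
    rw [vecMul_zero]
    exact S.span_aniso R h p
  set ψ := cov fU u ᵥ* X
  let Sψ : Submodule F (Fin r → F) := (wsub g c).comap (pl r ψ)
  have huS : u ∈ Sψ := hW u hu X ⟨v₀, rfl⟩
  have htop : Sψ = ⊤ := by
    refine S.split_eq (T := ⊤) (fun x _ hx => S.extU fun v => by rw [hx v Submodule.mem_top, S.sym.zero_left])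
      (Or.inr (by rw [finrank_top, Module.finrank_fin_fun]; exact S.three_le)) le_top
      (fun e => hu (by
        have : u ∈ (⊥ : Submodule F (Fin r → F)) := e ▸ huS
        rw [(Submodule.mem_bot F).1 this, S.sym.zero_left])) fun v _ hv => ?_
    by_cases hperp : ∀ x ∈ Sψ, fU v x = 0
    · exact Or.inr hperp
    left
    push Not at hperp
    obtain ⟨x, hx, hvx⟩ := hperp
    have h := hW v hv (vecMulVec x ψ) hx
    rw [vecMul_pure, dotProduct_comm, S.sym.dot_cov, pure_smul_right, Submodule.smul_mem_iff _ (by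
      rwa [S.symU v x])] at h
    exact h
  have heq : LinearMap.range (pl r ψ) = wsub g c := by
    refine Submodule.eq_of_le_of_finrank_eq ?_ (by rw [finrank_range_pl hψ, finrank_wsub g hc])
    rintro _ ⟨v, rfl⟩
    exact (htop ▸ Submodule.mem_top : v ∈ Sψ)
  exact hgK (S.kron_of_map T hc hψ hg fun v => heq ▸ ⟨v, rfl⟩)

theorem kron_of_centScalar_two (T : CentScalar M fA) (hs : s = 2) (hr : 7 ≤ r) :
    M ≤ Cfsg.Geo.kroneckerSubgroup r s F := by
  classical
  by_contra hle
  obtain ⟨g₀, hg₀, hg₀K⟩ := SetLike.not_le_iff_exists.1 hle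
  obtain ⟨c, hc⟩ : ∃ c : Fin s → F, c ≠ 0 := ⟨Pi.single ⟨0, by omega⟩ 1, by simp⟩
  obtain ⟨e₀, he₀⟩ := S.alt.form.exists_partner hc
  have hce : fA c e₀ = -1 := by rw [S.alt.swap e₀ c, he₀]
  obtain ⟨g, hg, hgK, hrk⟩ := S.exists_small T hg₀ hg₀K (by omega) hc
  obtain ⟨π, hπ⟩ : ∃ π, π = pim fA c g := ⟨_, rfl⟩
  obtain ⟨πa, hπa⟩ := S.exists_adj π
  have hπa' : ∀ u v, fU u (πa v) = fU (pim fA c g u) v := fun u v => by rw [← hπ]; exact hπa u v
  obtain ⟨y, hy, hyK, hyc, hyp⟩ := S.exists_escape T hc hg hgK hπa'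
  rw [← hπ] at hyp
  -- coordinates
  have hspan : (F ∙ c) ⊔ (F ∙ e₀) = ⊤ := by
    refine Submodule.eq_top_of_finrank_eq ?_
    have h2 := Submodule.finrank_sup_add_finrank_inf_eq (F ∙ c) (F ∙ e₀)
    have hdisj : (F ∙ c) ⊓ (F ∙ e₀) = ⊥ := by
      rw [eq_bot_iff]
      rintro x ⟨hx, hx'⟩
      obtain ⟨a, rfl⟩ := Submodule.mem_span_singleton.1 hx
      obtain ⟨b, hb⟩ := Submodule.mem_span_singleton.1 hx'
      have h := congrArg (fun z => fA z c) hb
      simp only [S.alt.form.smul_left, he₀, S.alt.self, mul_one, mul_zero] at h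
      rw [Submodule.mem_bot, ← hb, h, zero_smul]
    rw [hdisj, finrank_bot, add_zero, finrank_span_singleton hc,
      finrank_span_singleton (fun e => by rw [e, S.alt.form.zero_left] at he₀; exact zero_ne_one he₀)] at h2
    rw [h2, Module.finrank_fin_fun, hs]
  have hdec : ∀ X : Matrix (Fin r) (Fin s) F,
      X = vecMulVec (-kap fA e₀ X) c + vecMulVec (kap fA c X) e₀ :=
    lin_ext (L := LinearMap.id) (L' := (pl r c).comp (-kap fA e₀) + (pl r e₀).comp (kap fA c)) fun v x => by
      obtain ⟨p, hp, q, hq, hpq⟩ := Submodule.mem_sup.1 (hspan ▸ Submodule.mem_top : x ∈ (F ∙ c) ⊔ (F ∙ e₀))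
      obtain ⟨a, rfl⟩ := Submodule.mem_span_singleton.1 hp
      obtain ⟨b, rfl⟩ := Submodule.mem_span_singleton.1 hq
      subst hpq
      simp only [LinearMap.id_apply, LinearMap.add_apply, LinearMap.comp_apply, LinearMap.neg_apply, pl_apply,
        map_add, map_smul, S.kap_pure, S.alt.form.add_left, S.alt.form.smul_left, he₀, hce, S.alt.self,
        pure_add_right, pure_add_left, pure_smul_right, pure_neg_left, pure_smul_left]
      module
  let Cm : (Fin r → F) →ₗ[F] (Fin r → F) := -(kap fA e₀).comp ((op y).comp (pl r c))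
  let Km : (Fin r → F) →ₗ[F] (Fin r → F) := pim fA c y
  have hyd : ∀ u, op y (vecMulVec u c) = vecMulVec (Cm u) c + vecMulVec (Km u) e₀ := fun u => hdec _
  have hKsym : ∀ u v, fU u (Km v) = fU (Km u) v := fun u v => by
    show fU u (pim fA c y v) = fU (pim fA c y u) v
    rw [hyp]; exact S.adj_comp hπa u v
  -- the singular vector
  let L : (Fin r → F) →ₗ[F] (Fin r → F) := -(kap fA e₀).comp ((op g).comp (pl r c))
  obtain ⟨La, hLa⟩ := S.exists_adj L
  have hker : Module.finrank F (LinearMap.ker πa) + s ≥ r := by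
    have hle : Forms.perp S.Ul (LinearMap.range π) ≤ LinearMap.ker πa := fun z hz => by
      refine LinearMap.mem_ker.2 (S.extU fun x => ?_)
      rw [S.symU x (πa z), hπa, S.sym.zero_left]
      exact hz (π x) ⟨x, rfl⟩
    have h1 := S.goodU.finrank_add_finrank_perp (LinearMap.range π)
    rw [Module.finrank_fin_fun] at h1
    have h2 := Submodule.finrank_mono hle
    rw [hπ] at h1 h2
    omega
  have hker2 : Module.finrank F (LinearMap.ker (π.comp La)) + s ≥ r := by
    have h1 := (π.comp La).finrank_range_add_finrank_ker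
    rw [Module.finrank_fin_fun] at h1
    have h2 := Submodule.finrank_mono (LinearMap.range_comp_le_range La π)
    rw [hπ] at h1 h2 ⊢
    omega
  obtain ⟨z, hz, hz0, hzz⟩ := S.exists_sing (LinearMap.ker πa ⊓ LinearMap.ker (π.comp La)) (by
    have h1 := Submodule.finrank_sup_add_finrank_inf_eq (LinearMap.ker πa) (LinearMap.ker (π.comp La))
    have h2 := Submodule.finrank_le (LinearMap.ker πa ⊔ LinearMap.ker (π.comp La))
    rw [Module.finrank_fin_fun] at h2
    omega)
  have hπz : πa z = 0 := LinearMap.mem_ker.1 hz.1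
  have hπLz : π (La z) = 0 := LinearMap.mem_ker.1 hz.2
  have hKz : Km z = 0 := by
    show pim fA c y z = 0
    rw [hyp, LinearMap.neg_apply, LinearMap.comp_apply, hπz, map_zero, neg_zero]
  have hCz : ∀ v, fU (Cm v) z = fU v z := fun v => by
    have h : Cm v = v - L (πa v) := by
      show -kap fA e₀ (op y (vecMulVec v c)) = v - -kap fA e₀ (op g (vecMulVec (πa v) c))
      rw [hyc, map_sub, S.kap_pure, hce, neg_one_smul]
      abel
    rw [h, S.sym.sub_left, ← hLa, S.symU (La z) (πa v), hπa, hπLz, S.sym.zero_left, sub_zero]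
  -- nilpotency fails
  obtain ⟨u₁, hu₁⟩ := S.not_nilpotent T hc hg hgK hπa'
  rw [← hπ] at hu₁
  obtain ⟨w, hwz, hwK⟩ : ∃ w, fU w z = 0 ∧ Km w ≠ 0 := by
    by_contra hno
    push Not at hno
    have hmem : ∀ u, Km u ∈ F ∙ z := fun u => by
      by_contra hu
      obtain ⟨w, hw0, hw1⟩ := S.exists_dual_out hu
      rw [hKsym, hno w (hw0 z (Submodule.mem_span_singleton_self z)), S.sym.zero_left] at hw1
      exact zero_ne_one hw1
    refine hu₁ ?_
    obtain ⟨l, hl⟩ := Submodule.mem_span_singleton.1 (hmem u₁)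
    have h := congrArg Km hl
    rw [map_smul, hKz, smul_zero] at h
    change 0 = pim fA c y (pim fA c y u₁) at h
    rw [hyp] at h
    simpa using h.symm
  set k := Km w with hk
  set h₂ := fU w w / 2
  let α : (Fin r → F) →ₗ[F] (Fin r → F) := LinearMap.id + rk1 S.sym w z - rk1 S.sym z w - h₂ • rk1 S.sym z z
  have hαx : ∀ x, α x = x + fU x z • w - fU x w • z - (h₂ * fU x z) • z := fun x => by
    show x + fU x z • w - fU x w • z - h₂ • (fU x z • z) = _
    rw [smul_smul]
  have hα : ∀ u v, fU (α u) (α v) = fU u v := fun u v => by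
    simp only [hαx, S.sym.add_left, S.sym.add_right, S.sym.sub_left, S.sym.sub_right, S.sym.smul_left, S.smulU,
      hzz, hwz, show fU z w = 0 by rw [S.symU w z]; exact hwz]
    linear_combination (fU u z) * S.symU v w - (fU u w) * S.symU v z - h₂ * fU u z * S.symU v z
      - fU u z * fU v z * div_mul_cancel₀ (fU w w) S.two
  obtain ⟨q, hq, -, hqp, -⟩ := S.exists_ortho hα
  set g' := y⁻¹ * q * y with hg'
  have hg'M : g' ∈ M := M.mul_mem (M.mul_mem (M.inv_mem hy) hq) hy
  have hg'f : ∀ v v', fU (pim fA c g' v) v' = -(fU z v * fU k v' + fU k v * fU z v') := by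
    intro v v'
    show fU (kap fA c (op g' (vecMulVec v c))) v' = _
    rw [← S.B_pure, ← S.iso y hy, hg', op_mul, op_mul, op_op_inv, hyd v, hyd v', map_add, hqp, hqp]
    simp only [S.B_add_left, S.B_add_right, S.B_pure_pure, S.alt.self, hce, he₀, zero_mul, zero_add, add_zero]
    have hiso : fU (Km v) (Cm v') = fU (Cm v) (Km v') := by
      have h := S.iso y hy (vecMulVec v c) (vecMulVec v' c)
      rw [hyd, hyd] at h
      simp only [S.B_add_left, S.B_add_right, S.B_pure_pure, S.alt.self, hce, he₀, zero_mul, zero_add,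
        add_zero] at h
      linear_combination h
    have hK0 : ∀ x, fU (Km x) z = 0 := fun x => by rw [← hKsym, hKz, S.sym.zero_right]
    have hkv : ∀ x, fU (Km x) w = fU k x := fun x => by rw [← hKsym, hk, S.symU x (Km w)]
    simp only [hαx, S.sym.add_left, S.sym.sub_left, S.sym.smul_left, hCz, hK0, hkv]
    rw [S.symU (Km v') z, S.symU (Cm v') z, hK0, hCz, S.symU (Km v') w, hkv, S.symU z v, S.symU z v']
    linear_combination hiso
  have hzk : fU z k = 0 := by rw [hk, hKsym, hKz, S.sym.zero_left]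
  have hpim : ∀ v, pim fA c g' v = -(fU z v • k + fU k v • z) := fun v => S.extU fun v' => by
    rw [hg'f, S.sym.neg_left, S.sym.add_left, S.sym.smul_left, S.sym.smul_left]
  have hsym' : ∀ u v, fU u (pim fA c g' v) = fU (pim fA c g' u) v := fun u v => by
    rw [S.symU (pim fA c g' v) u, hg'f, hg'f]
    ring
  have hz0' : z ∉ (⊥ : Submodule F (Fin r → F)) := by simpa using hz0
  obtain ⟨v₁, -, hv₁⟩ := S.exists_dual_out hz0'
  have hne : pim fA c g' v₁ ≠ 0 := by
    rw [hpim, neg_ne_zero]
    intro e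
    have hv : fU z v₁ = 1 := by rw [S.symU v₁ z]; exact hv₁
    rw [hv, one_smul] at e
    have h' : k = (-fU k v₁) • z := by rw [neg_smul]; exact eq_neg_of_add_eq_zero_left e
    have : fU k v₁ = -fU k v₁ := by
      conv_lhs => rw [h', S.sym.smul_left, hv, mul_one]
    have h0 : fU k v₁ = 0 := (mul_eq_zero.1 (show 2 * fU k v₁ = 0 by linear_combination this)).resolve_left S.two
    exact hwK (by rw [h', h0, neg_zero, zero_smul])
  have hg'K : g' ∉ Cfsg.Geo.kroneckerSubgroup r s F := by
    rintro ⟨A, C, hAC⟩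
    have hA : ∀ v, pim fA c g' v =
        fA ((C : Matrix (Fin s) (Fin s) F) *ᵥ c) c • ((A : Matrix (Fin r) (Fin r) F) *ᵥ v) := fun v => by
      show kap fA c (op g' (vecMulVec v c)) = _
      rw [op_kron hAC, mul_vecMulVec, vecMulVec_mul, vecMul_transpose, S.kap_pure]
    have hl : fA ((C : Matrix (Fin s) (Fin s) F) *ᵥ c) c ≠ 0 := fun e => hne (by rw [hA, e, zero_smul])
    have hinj : Function.Injective (pim fA c g') := fun v v' e => by
      rw [hA, hA] at e
      have h := congrArg (fun x => ((A⁻¹ : GL (Fin r) F) : Matrix (Fin r) (Fin r) F) *ᵥ x)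
        (smul_right_injective _ hl e)
      simpa [mulVec_mulVec] using h
    have h1 := LinearMap.finrank_range_of_inj hinj
    rw [Module.finrank_fin_fun] at h1
    have h2 := Submodule.finrank_mono (show LinearMap.range (pim fA c g') ≤ (F ∙ k) ⊔ (F ∙ z) by
      rintro _ ⟨v, rfl⟩
      rw [hpim]
      exact Submodule.neg_mem _ (Submodule.add_mem_sup (Submodule.smul_mem _ _ (Submodule.mem_span_singleton_self k))
        (Submodule.smul_mem _ _ (Submodule.mem_span_singleton_self z))))
    have h3 := Submodule.finrank_add_le_finrank_add_finrank (F ∙ k) (F ∙ z)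
    rw [finrank_span_singleton hwK, finrank_span_singleton hz0] at h3
    omega
  obtain ⟨u, hu⟩ := S.not_nilpotent T hc hg'M hg'K (πa := pim fA c g') hsym'
  refine hu ?_
  have hkz : fU k z = 0 := by rw [S.symU z k]; exact hzk
  have e2 : ∀ v, pim fA c g' (pim fA c g' v) = (fU k k * fU z v) • z := fun v => S.extU fun v' => by
    rw [← hsym', hpim v, S.sym.neg_left, S.sym.add_left, S.sym.smul_left, S.sym.smul_left, S.sym.smul_left,
      hsym', hsym', hpim k, hpim z, S.sym.neg_left, S.sym.neg_left, S.sym.add_left, S.sym.add_left, S.sym.smul_left,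
      S.sym.smul_left, S.sym.smul_left, S.sym.smul_left, hzk, hzz, hkz]
    ring
  rw [e2, e2, S.smulU, hzz, mul_zero, mul_zero, zero_smul]

end MSetup

end Cfsg.Agent.Lib.TensorMixed
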